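import Mathlib
import Groth.Agent.SepLib.Field

/-!
The key step for testing flatness on a family of local base changes.
-/

set_option autoImplicit false
set_option linter.style.haveILetI false
set_option backward.isDefEq.respectTransparency false

universe u

open TensorProduct IsLocalRing

namespace Groth.Agent.FlatFam

attribute [local instance] Algebra.TensorProduct.rightAlgebra

section Psi

variable {A R B : Type u} [CommRing A] [CommRing R] [Algebra A R] [CommRing B] [Algebra A B]
  {M : Type u} [AddCommGroup M] [Module R M] [Module A M] [IsScalarTower A R M]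
  {K : Type u} [Fintype K] (m : K → M)
  {X : Type u} [AddCommGroup X] [Module B X] [Module A X] [IsScalarTower A B X] (β : K → X)

/-- Multiplication of a vector by the coefficient ring. -/
noncomputable def mulVec (x : X) : M ⊗[A] B →ₗ[R] M ⊗[A] X :=
  AlgebraTensorModule.lTensor R M ((LinearMap.toSpanSingleton B X x).restrictScalars A)

/-- The pairing of the coefficient tensor ring with a relation. -/
noncomputable def psi : R ⊗[A] B →ₗ[R] M ⊗[A] X :=
  ∑ k, mulVec (R := R) (M := M) (β k) ∘ₗ (SepLib.theta (R := R) A B M).toLinearMap ∘ₗ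
    (TensorProduct.mk R (R ⊗[A] B) M).flip (m k)

theorem psi_apply (h : R ⊗[A] B) :
    psi m β h = ∑ k, mulVec (R := R) (M := M) (β k) (SepLib.theta (R := R) A B M (h ⊗ₜ[R] m k)) := by
  simp [psi, LinearMap.sum_apply]

theorem psi_tmul_one (r : R) : psi m β (r ⊗ₜ[A] (1 : B)) = ∑ k, (r • m k) ⊗ₜ[A] β k := by
  simp [psi_apply, SepLib.theta_tmul, mulVec]

/-- Multiplication by a coefficient. -/
noncomputable def coefMul (X : Type u) [AddCommGroup X] [Module B X] [Module A X]
    [IsScalarTower A B X] (b : B) : M ⊗[A] X →ₗ[R] M ⊗[A] X :=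
  AlgebraTensorModule.lTensor R M ((LinearMap.lsmul B X b).restrictScalars A)

theorem theta_smul (b : B) (z : (R ⊗[A] B) ⊗[R] M) :
    SepLib.theta (R := R) A B M (((1 : R) ⊗ₜ[A] b) • z) = coefMul (R := R) B b (SepLib.theta (R := R) A B M z) := by
  induction z using TensorProduct.induction_on with
  | zero => simp
  | tmul h x =>
    induction h using TensorProduct.induction_on with
    | zero => simp
    | tmul r c => simp [TensorProduct.smul_tmul', SepLib.theta_tmul, coefMul,
        Algebra.TensorProduct.tmul_mul_tmul]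
    | add p q hp hq => simp only [TensorProduct.add_tmul, smul_add, map_add, hp, hq]
  | add p q hp hq => simp only [smul_add, map_add, hp, hq]

theorem mulVec_coefMul (x : X) (b : B) (w : M ⊗[A] B) :
    mulVec (R := R) x (coefMul (R := R) B b w) = mulVec (R := R) (b • x) w := by
  induction w using TensorProduct.induction_on with
  | zero => simp
  | tmul y c => simp [mulVec, coefMul, mul_comm b c, mul_smul]
  | add p q hp hq => simp only [map_add, hp, hq]

theorem coefMul_mulVec (x : X) (b : B) (w : M ⊗[A] B) :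
    coefMul (R := R) X b (mulVec (R := R) x w) = mulVec (R := R) x (coefMul (R := R) B b w) := by
  induction w using TensorProduct.induction_on with
  | zero => simp
  | tmul y c => simp [mulVec, coefMul, mul_smul, smul_comm b c x]
  | add p q hp hq => simp only [map_add, hp, hq]

theorem psi_coef_mul (b : B) (h : R ⊗[A] B) :
    psi m β (((1 : R) ⊗ₜ[A] b) * h) = coefMul (R := R) X b (psi m β h) := by
  simp only [psi_apply, map_sum, coefMul_mulVec, ← theta_smul, TensorProduct.smul_tmul',
    smul_eq_mul]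

theorem psi_scalar_mul (r : R) (h : R ⊗[A] B) :
    psi m β ((r ⊗ₜ[A] (1 : B)) * h) = r • psi m β h := by
  rw [← map_smul]
  congr 1
  rw [Algebra.smul_def, Algebra.TensorProduct.algebraMap_apply, Algebra.algebraMap_self,
    RingHom.id_apply]

/-- Elements whose multiples pair into a fixed submodule form an ideal. -/
noncomputable def psiIdeal (Q : Submodule R (M ⊗[A] X))
    (hQ : ∀ (b : B), ∀ w ∈ Q, coefMul (R := R) X b w ∈ Q) (h₀ : R ⊗[A] B) :
    Ideal (R ⊗[A] B) where
  carrier := {h | psi m β (h * h₀) ∈ Q}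
  add_mem' {x y} hx hy := by
    show psi m β ((x + y) * h₀) ∈ Q
    rw [add_mul, map_add]
    exact add_mem hx hy
  zero_mem' := by simp
  smul_mem' c x hx := by
    show psi m β (c * x * h₀) ∈ Q
    induction c using TensorProduct.induction_on with
    | zero => simp
    | tmul r b =>
      have : (r ⊗ₜ[A] b : R ⊗[A] B) = (r ⊗ₜ[A] 1) * (1 ⊗ₜ[A] b) := by simp
      rw [this, mul_assoc, mul_assoc, psi_scalar_mul, psi_coef_mul]
      exact Q.smul_mem r (hQ b _ hx)
    | add p q hp hq =>
      rw [add_mul, add_mul, map_add]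
      exact add_mem hp hq

theorem coefMul_mem_smul_top (I : Ideal R) (b : B) (w : M ⊗[A] X)
    (hw : w ∈ I • (⊤ : Submodule R (M ⊗[A] X))) :
    coefMul (R := R) X b w ∈ I • (⊤ : Submodule R (M ⊗[A] X)) :=
  Submodule.smul_top_le_comap_smul_top I (coefMul (R := R) X b) hw

/-- A locally trivial relation pairs to zero. -/
theorem psi_eq_zero_of_trivial {h : R ⊗[A] B} {J : Type*} [Fintype J] (a : K → J → B)
    (z : J → (R ⊗[A] B) ⊗[R] M) (hh : ∀ k, h ⊗ₜ[R] m k = ∑ j, ((1 : R) ⊗ₜ[A] a k j) • z j)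
    (ha : ∀ j, ∑ k, a k j • β k = 0) : psi m β h = 0 := by
  simp only [psi_apply, hh, map_sum, theta_smul, mulVec_coefMul]
  rw [Finset.sum_comm]
  refine Finset.sum_eq_zero fun j _ => ?_
  have : ∀ (x : K → X) (w : M ⊗[A] B),
      ∑ k, mulVec (R := R) (x k) w = mulVec (R := R) (∑ k, x k) w := by
    intro x w
    induction w using TensorProduct.induction_on with
    | zero => simp
    | tmul y c => simp [mulVec, Finset.smul_sum, TensorProduct.tmul_sum]
    | add p q hp hq => simp only [map_add, Finset.sum_add_distrib, hp, hq]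
  rw [this, ha j]
  induction SepLib.theta (R := R) A B M (z j) using TensorProduct.induction_on with
  | zero => simp
  | tmul y c => simp [mulVec]
  | add p q hp hq => simp only [map_add, hp, hq, add_zero]

end Psi

variable {A R B : Type u} [CommRing A] [IsLocalRing A] [CommRing R] [Algebra A R] [CommRing B]
  [IsLocalRing B] [Algebra A B] [IsLocalHom (algebraMap A B)]
  {M : Type u} [AddCommGroup M] [Module R M] [Module A M] [IsScalarTower A R M]
  (q : Ideal R) {K : Type u} [Fintype K] (m : K → M)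

/-- Vectors independent in the special fibre at a point, in the adic sense. -/
def Indep : Prop :=
  ∀ c : K → A, (∀ N : ℕ, ∃ t ∉ q, t • ∑ k, c k • m k ∈
      (q ^ N ⊔ (maximalIdeal A).map (algebraMap A R)) • (⊤ : Submodule R M)) →
    ∀ k, c k ∈ maximalIdeal A

/-- A relation modulo an ideal in a flat module is trivial modulo the ideal. -/
theorem exists_trivial_mod {B : Type u} [CommRing B] {N : Type u} [AddCommGroup N] [Module B N]
    [Module.Flat B N] {K : Type u} [Fintype K] (𝔠 : Ideal B) (b : K → B) (x : K → N)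
    (h : ∑ k, b k • x k ∈ 𝔠 • (⊤ : Submodule B N)) :
    ∃ (J : ℕ) (a : K → Fin J → B) (y : Fin J → N),
      (∀ k, x k = ∑ j, a k j • y j) ∧ ∀ j, ∑ k, b k * a k j ∈ 𝔠 := by
  classical
  have hgen : ∀ w ∈ 𝔠 • (⊤ : Submodule B N), ∃ (n : ℕ) (c : Fin n → B) (v : Fin n → N),
      (∀ i, c i ∈ 𝔠) ∧ ∑ i, c i • v i = w := by
    intro w hw
    refine Submodule.smul_induction_on hw
      (fun r hr v _ => ⟨1, fun _ => r, fun _ => v, fun _ => hr, by simp⟩) fun v w hv hw => ?_
    obtain ⟨n, c, a, hc, rfl⟩ := hv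
    obtain ⟨n', c', a', hc', rfl⟩ := hw
    exact ⟨n + n', Fin.append c c', Fin.append a a', Fin.addCases (by simpa using hc)
      (by simpa using hc'), by simp [Fin.sum_univ_add]⟩
  obtain ⟨n, c, v, hc, hsum⟩ := hgen _ h
  have hrel : ∑ i, Sum.elim b (fun i => -c i) i • Sum.elim x v i = 0 := by
    simp [Fintype.sum_sum_type, hsum]
  obtain ⟨J, a, y, hy, ha⟩ := Module.Flat.isTrivialRelation_of_sum_smul_eq_zero hrel
  refine ⟨J, fun k => a (Sum.inl k), y, fun k => hy (Sum.inl k), fun j => ?_⟩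
  have h0 := ha j
  simp [Fintype.sum_sum_type, add_neg_eq_zero] at h0
  rw [h0]
  exact Ideal.sum_mem _ fun i _ => Ideal.mul_mem_right _ _ (hc i)

/-- The quotient of the module by a power of the point and the closed point of the base. -/
abbrev Jet (A : Type u) [CommRing A] [IsLocalRing A] {R : Type u} [CommRing R] [Algebra A R]
    (M : Type u) [AddCommGroup M] [Module R M] (q : Ideal R) (n : ℕ) : Type u :=
  M ⧸ (q ^ n ⊔ (maximalIdeal A).map (algebraMap A R)) • (⊤ : Submodule R M)

/-- The projection onto a jet module. -/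
abbrev jet (A : Type u) [CommRing A] [IsLocalRing A] {R : Type u} [CommRing R] [Algebra A R]
    {M : Type u} [AddCommGroup M] [Module R M] (q : Ideal R) (n : ℕ) : M →ₗ[R] Jet A M q n :=
  Submodule.mkQ _

variable {q m} in
omit [IsLocalHom (algebraMap A B)] in
/-- Flatness at one prime gives an element outside it killing the pairing. -/
theorem exists_notMem_psi_eq_zero {X : Type u} [AddCommGroup X] [Module B X] [Module A X]
    [IsScalarTower A B X] (β : K → X) (𝔠 : Ideal B) (b : K → B)
    (hsum : ∀ a : K → B, ∑ k, a k * b k ∈ 𝔠 → ∑ k, a k • β k = 0)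
    (hrel : ∑ k, ((1 : R) ⊗ₜ[A] b k) • ((1 : R ⊗[A] B) ⊗ₜ[R] m k) ∈
      𝔠 • (⊤ : Submodule B ((R ⊗[A] B) ⊗[R] M)))
    (P : Ideal (R ⊗[A] B)) [P.IsPrime]
    [Module.Flat B (LocalizedModule P.primeCompl ((R ⊗[A] B) ⊗[R] M))] :
    ∃ h ∉ P, psi m β h = 0 := by
  classical
  let N' := LocalizedModule P.primeCompl ((R ⊗[A] B) ⊗[R] M)
  let l := LocalizedModule.mkLinearMap P.primeCompl ((R ⊗[A] B) ⊗[R] M)
  have hbs : ∀ (c : B) (z : (R ⊗[A] B) ⊗[R] M), l (((1 : R) ⊗ₜ[A] c) • z) = c • l z := by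
    intro c z
    rw [map_smul, show ((1 : R) ⊗ₜ[A] c : R ⊗[A] B) = algebraMap B (R ⊗[A] B) c from rfl,
      algebraMap_smul]
  have hrel' : ∑ k, b k • l ((1 : R ⊗[A] B) ⊗ₜ[R] m k) ∈ 𝔠 • (⊤ : Submodule B N') := by
    simp only [← hbs, ← map_sum]
    exact Submodule.smul_top_le_comap_smul_top 𝔠 (l.restrictScalars B) hrel
  obtain ⟨J, a, y, hy, ha⟩ := exists_trivial_mod (N := N') 𝔠 b _ hrel'
  obtain ⟨⟨s, hs⟩⟩ : Nonempty {s : P.primeCompl // ∀ j, ∃ z, (s : R ⊗[A] B) • y j = l z} := by
    choose zs hzs using fun j => IsLocalizedModule.surj P.primeCompl l (y j)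
    refine ⟨⟨∏ j, (zs j).2, fun j => ?_⟩⟩
    refine ⟨(∏ i ∈ Finset.univ.erase j, ((zs i).2 : R ⊗[A] B)) • (zs j).1, ?_⟩
    rw [map_smul, ← hzs j, Submonoid.smul_def, ← mul_smul, Submonoid.coe_finsetProd,
      Finset.prod_erase_mul _ _ (Finset.mem_univ j)]
  choose z hz using hs
  have hk : ∀ k, l ((s : R ⊗[A] B) • ((1 : R ⊗[A] B) ⊗ₜ[R] m k)) =
      l (∑ j, ((1 : R) ⊗ₜ[A] a k j) • z j) := by
    intro k
    rw [map_smul, map_sum, show l ((1 : R ⊗[A] B) ⊗ₜ[R] m k) = ∑ j, a k j • y j from hy k,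
      Finset.smul_sum]
    refine Finset.sum_congr rfl fun j _ => ?_
    rw [hbs, ← hz j, smul_comm]
  choose c hc using fun k => (IsLocalizedModule.eq_iff_exists P.primeCompl l).1 (hk k)
  let d : P.primeCompl := ∏ k, c k
  have hd : ∀ k, ((d * s : P.primeCompl) : R ⊗[A] B) ⊗ₜ[R] m k =
      ∑ j, ((1 : R) ⊗ₜ[A] a k j) • ((d : R ⊗[A] B) • z j) := by
    intro k
    have h1 := congrArg ((∏ i ∈ Finset.univ.erase k, (c i : R ⊗[A] B)) • ·) (hc k)
    simp only [Submonoid.smul_def, ← mul_smul, ← mul_assoc] at h1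
    rw [Finset.prod_erase_mul _ _ (Finset.mem_univ k), ← Submonoid.coe_finsetProd] at h1
    rw [TensorProduct.smul_tmul', smul_eq_mul, mul_one, Finset.smul_sum] at h1
    rw [Submonoid.coe_mul]
    refine h1.trans (Finset.sum_congr rfl fun j _ => ?_)
    rw [smul_comm]
  have hzero : psi m β ((d * s : P.primeCompl) : R ⊗[A] B) = 0 :=
    psi_eq_zero_of_trivial m β a _ hd fun j => hsum _ (by
      simpa [mul_comm, smul_eq_mul] using ha j)
  exact ⟨_, (d * s).2, hzero⟩

variable {q m} in
/-- The coefficients lie in the ideal when the pairing vanishes on every jet, up to a unit at the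
point. -/
theorem mem_of_jets [q.IsPrime] (hind : Indep (A := A) q m) (𝔠 : Ideal B) (b : K → B)
    (H : ∀ (X : Type u) [AddCommGroup X] [Module B X] [Module A X] [IsScalarTower A B X]
      (β : K → X), (∀ c ∈ maximalIdeal B, ∀ x : X, c • x = 0) →
      (∀ a : K → B, ∑ k, a k * b k ∈ 𝔠 → ∑ k, a k • β k = 0) →
      ∀ n : ℕ, ∃ t ∉ q, t • ∑ k, jet A q n (m k) ⊗ₜ[A] β k = 0) :
    ∀ k, b k ∈ 𝔠 := by
  classical
  let 𝔟 : Ideal B := Ideal.span (Set.range b)
  let β₀ : K → 𝔟 := fun k => ⟨b k, Ideal.subset_span ⟨k, rfl⟩⟩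
  let X := 𝔟 ⧸ ((maximalIdeal B • ⊤ : Submodule B 𝔟) ⊔ Submodule.comap 𝔟.subtype 𝔠)
  let β : K → X := fun k => Submodule.Quotient.mk (β₀ k)
  suffices hβ : ∀ k, β k = 0 by
    have hle : 𝔟 ≤ 𝔠 := by
      refine Submodule.le_of_le_smul_of_le_jacobson_bot (I := maximalIdeal B)
        (Submodule.fg_span (Set.finite_range b))
        (IsLocalRing.jacobson_eq_maximalIdeal ⊥ bot_ne_top).ge (Ideal.span_le.2 ?_)
      rintro _ ⟨k, rfl⟩
      obtain ⟨x, hx, y, hy, hxy⟩ := Submodule.mem_sup.1 ((Submodule.Quotient.mk_eq_zero _).1 (hβ k))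
      have hx' : (x : B) ∈ Submodule.map 𝔟.subtype (maximalIdeal B • ⊤ : Submodule B 𝔟) :=
        ⟨x, hx, rfl⟩
      rw [Submodule.map_smul'', Submodule.map_top, Submodule.range_subtype] at hx'
      exact Submodule.mem_sup.2 ⟨y, hy, x, hx', by rw [add_comm]; exact congrArg Subtype.val hxy⟩
    exact fun k => hle (Ideal.subset_span ⟨k, rfl⟩)
  have hsum : ∀ a : K → B, ∑ k, a k * b k ∈ 𝔠 → ∑ k, a k • β k = 0 := by
    intro a ha
    have : ∑ k, a k • β₀ k ∈ Submodule.comap 𝔟.subtype 𝔠 := by simpa [β₀] using ha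
    have h := (Submodule.Quotient.mk_eq_zero
      ((maximalIdeal B • ⊤ : Submodule B 𝔟) ⊔ Submodule.comap 𝔟.subtype 𝔠)).2
        (Submodule.mem_sup_right this)
    rw [← Submodule.mkQ_apply, map_sum] at h
    simpa [β] using h
  have hXm : ∀ c ∈ maximalIdeal B, ∀ x : X, c • x = 0 := by
    intro c hc x
    obtain ⟨x, rfl⟩ := Submodule.Quotient.mk_surjective _ x
    rw [← Submodule.Quotient.mk_smul, Submodule.Quotient.mk_eq_zero]
    exact Submodule.mem_sup_left (Submodule.smul_mem_smul hc trivial)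
  intro k₀
  have hXA : Module.IsTorsionBySet A X (maximalIdeal A) := by
    intro x a
    rw [← algebraMap_smul B (a : A) x]
    exact hXm _ ((mem_maximalIdeal _).2 fun h =>
      (mem_maximalIdeal _).1 a.2 (isUnit_of_map_unit (algebraMap A B) _ h)) x
  letI : Module (A ⧸ maximalIdeal A) X := hXA.module
  letI := Ideal.Quotient.field (maximalIdeal A)
  haveI : IsScalarTower A (A ⧸ maximalIdeal A) X := hXA.isScalarTower
  rw [← Module.forall_dual_apply_eq_zero_iff (A ⧸ maximalIdeal A)]
  intro lam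
  choose c hc using fun k => Ideal.Quotient.mk_surjective (lam (β k))
  rw [← hc k₀, Ideal.Quotient.eq_zero_iff_mem]
  refine hind c (fun n => ?_) k₀
  obtain ⟨t, htq, ht⟩ := H X β hXm hsum n
  refine ⟨t, htq, ?_⟩
  let V := M ⧸ (q ^ n ⊔ (maximalIdeal A).map (algebraMap A R)) • (⊤ : Submodule R M)
  let mk : M →ₗ[R] V := Submodule.mkQ _
  have hVA : ∀ a ∈ maximalIdeal A, ∀ v : V, a • v = 0 := by
    intro a ha v
    obtain ⟨v, rfl⟩ := Submodule.Quotient.mk_surjective _ v
    rw [← Submodule.Quotient.mk_smul, Submodule.Quotient.mk_eq_zero, ← algebraMap_smul R a v]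
    exact Submodule.smul_mem_smul (Submodule.mem_sup_right (Ideal.mem_map_of_mem _ ha)) Submodule.mem_top
  letI : Module (A ⧸ maximalIdeal A) V :=
    Module.IsTorsionBySet.module (I := maximalIdeal A) fun v a => hVA a a.2 v
  haveI : IsScalarTower A (A ⧸ maximalIdeal A) V :=
    Module.IsTorsionBySet.isScalarTower (I := maximalIdeal A) fun v a => hVA a a.2 v
  let G : V ⊗[A] X →ₗ[R] V := AlgebraTensorModule.lift
    { toFun := fun v => (LinearMap.toSpanSingleton (A ⧸ maximalIdeal A) V v).restrictScalars A ∘ₗ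
        lam.restrictScalars A
      map_add' := fun x y => by ext; simp
      map_smul' := fun r v => by
        ext x
        obtain ⟨e, he⟩ := Ideal.Quotient.mk_surjective (lam x)
        simp only [LinearMap.comp_apply, LinearMap.coe_restrictScalars,
          LinearMap.toSpanSingleton_apply, RingHom.id_apply, LinearMap.smul_apply, ← he,
          ← Ideal.Quotient.algebraMap_eq, algebraMap_smul, smul_comm e r v] }
  rw [← Submodule.Quotient.mk_eq_zero]
  show mk (t • ∑ k, c k • m k) = 0
  refine Eq.trans ?_ ((congrArg G ht).trans (map_zero G))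
  rw [map_smul, map_smul, map_sum, map_sum]
  refine congrArg (t • ·) (Finset.sum_congr rfl fun k _ => ?_)
  show mk (c k • m k) = lam (β k) • mk (m k)
  rw [← hc k, ← Ideal.Quotient.algebraMap_eq, algebraMap_smul]
  exact (mk.restrictScalars A).map_smul (c k) (m k)

variable {q m} in
/-- Independent vectors admit only the trivial relation in a base change which is flat at every
point over the point and the closed point. -/
theorem mem_of_relation [q.IsPrime] (hind : Indep (A := A) q m) (𝔠 : Ideal B) (b : K → B)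
    (hrel : ∑ k, ((1 : R) ⊗ₜ[A] b k) • ((1 : R ⊗[A] B) ⊗ₜ[R] m k) ∈
      𝔠 • (⊤ : Submodule B ((R ⊗[A] B) ⊗[R] M)))
    (hflat : ∀ (P : Ideal (R ⊗[A] B)) [P.IsPrime], P.comap (algebraMap R (R ⊗[A] B)) = q →
      P.comap (algebraMap B (R ⊗[A] B)) = maximalIdeal B →
      Module.Flat B (LocalizedModule P.primeCompl ((R ⊗[A] B) ⊗[R] M))) :
    ∀ k, b k ∈ 𝔠 := by
  refine mem_of_jets hind 𝔠 b fun X _ _ _ _ β hXm hsum => ?_
  let I : Ideal (R ⊗[A] B) := psiIdeal m β ⊥ (fun c w hw => by simp_all) 1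
  have hI : ∀ (P : Ideal (R ⊗[A] B)) [P.IsPrime], P.comap (algebraMap R (R ⊗[A] B)) = q →
      P.comap (algebraMap B (R ⊗[A] B)) = maximalIdeal B → ¬ I ≤ P := by
    intro P _ hPq hPB hle
    haveI := hflat P hPq hPB
    obtain ⟨h, hh, hzero⟩ := exists_notMem_psi_eq_zero β 𝔠 b hsum hrel P
    exact hh (hle (show psi m β (h * 1) ∈ (⊥ : Submodule R (M ⊗[A] X)) by
      rw [mul_one, hzero]; exact zero_mem _))
  let 𝔞 : Ideal (R ⊗[A] B) :=
    q.map (algebraMap R (R ⊗[A] B)) ⊔ (maximalIdeal B).map (algebraMap B (R ⊗[A] B))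
  obtain ⟨t, htq, htI⟩ : ∃ t ∉ q, algebraMap R (R ⊗[A] B) t ∈ I ⊔ 𝔞 := by
    by_contra hcon
    push Not at hcon
    have hdisj : Disjoint ((I ⊔ 𝔞 : Ideal (R ⊗[A] B)) : Set (R ⊗[A] B))
        ↑(q.primeCompl.map (algebraMap R (R ⊗[A] B))) := by
      rw [Set.disjoint_left]
      rintro _ hx ⟨t, ht, rfl⟩
      exact hcon t ht hx
    obtain ⟨P, hP, hle, hPd⟩ := Ideal.exists_le_prime_disjoint _ _ hdisj
    have hle' : I ≤ P ∧ 𝔞 ≤ P := ⟨le_sup_left.trans hle, le_sup_right.trans hle⟩
    refine hI P ?_ ?_ hle'.1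
    · refine le_antisymm (fun r hr => ?_) (Ideal.map_le_iff_le_comap.1 (le_sup_left.trans hle'.2))
      by_contra hrq
      exact Set.disjoint_left.1 hPd hr ⟨r, hrq, rfl⟩
    · exact ((IsLocalRing.maximalIdeal.isMaximal B).eq_of_le (Ideal.IsPrime.ne_top inferInstance)
        (Ideal.map_le_iff_le_comap.1 (le_sup_right.trans hle'.2))).symm
  have hpow : ∀ n : ℕ,
      psi m β ((t ^ n) ⊗ₜ[A] (1 : B)) ∈ q ^ n • (⊤ : Submodule R (M ⊗[A] X)) := by
    intro n
    induction n with
    | zero => simp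
    | succ n ih =>
      let Q : Submodule R (M ⊗[A] X) := q ^ (n + 1) • ⊤
      let J := psiIdeal m β Q (coefMul_mem_smul_top _) ((t ^ n) ⊗ₜ[A] (1 : B))
      have hIJ : I ⊔ 𝔞 ≤ J := by
        refine sup_le (fun x hx => ?_) (sup_le ?_ ?_)
        · have hx0 : psi m β x = 0 := by simpa [I, psiIdeal] using hx
          show psi m β (x * _) ∈ Q
          rw [mul_comm, psi_scalar_mul, hx0, smul_zero]
          exact zero_mem _
        · refine Ideal.map_le_iff_le_comap.2 fun r hr => ?_
          show psi m β (algebraMap R (R ⊗[A] B) r * _) ∈ Q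
          rw [Algebra.TensorProduct.algebraMap_apply, Algebra.algebraMap_self, RingHom.id_apply,
            psi_scalar_mul]
          show r • psi m β _ ∈ q ^ (n + 1) • (⊤ : Submodule R (M ⊗[A] X))
          rw [pow_succ' q n, Submodule.mul_smul]
          exact Submodule.smul_mem_smul hr ih
        · refine Ideal.map_le_iff_le_comap.2 fun c hc => ?_
          show psi m β (((1 : R) ⊗ₜ[A] c) * _) ∈ Q
          rw [psi_coef_mul]
          convert zero_mem Q
          induction psi m β ((t ^ n) ⊗ₜ[A] (1 : B)) using TensorProduct.induction_on with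
          | zero => simp
          | tmul y x => simp [coefMul, hXm c hc]
          | add p r hp hr => rw [map_add, hp, hr, add_zero]
      have := hIJ htI
      change psi m β (algebraMap R (R ⊗[A] B) t * _) ∈ Q at this
      rwa [Algebra.TensorProduct.algebraMap_apply, Algebra.algebraMap_self, RingHom.id_apply,
        Algebra.TensorProduct.tmul_mul_tmul, mul_one, ← pow_succ'] at this
  intro n
  refine ⟨t ^ n, fun h => htq (Ideal.IsPrime.mem_of_pow_mem inferInstance n h), ?_⟩
  let J : M ⊗[A] X →ₗ[R] Jet A M q n ⊗[A] X :=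
    AlgebraTensorModule.rTensor A X (jet A q n)
  have h2 : J (psi m β ((t ^ n) ⊗ₜ[A] (1 : B))) ∈
      q ^ n • (⊤ : Submodule R (Jet A M q n ⊗[A] X)) :=
    Submodule.smul_top_le_comap_smul_top (q ^ n) J (hpow n)
  have h3 : q ^ n • (⊤ : Submodule R (Jet A M q n ⊗[A] X)) = ⊥ := by
    rw [eq_bot_iff, Submodule.smul_le]
    rintro r hr v -
    rw [Submodule.mem_bot]
    induction v using TensorProduct.induction_on with
    | zero => simp
    | tmul v x =>
      obtain ⟨v, rfl⟩ := Submodule.Quotient.mk_surjective _ v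
      rw [TensorProduct.smul_tmul', ← Submodule.Quotient.mk_smul,
        (Submodule.Quotient.mk_eq_zero _).2
          (Submodule.smul_mem_smul (Submodule.mem_sup_left hr) Submodule.mem_top), TensorProduct.zero_tmul]
    | add v w hv hw => rw [smul_add, hv, hw, add_zero]
  rw [h3, Submodule.mem_bot, psi_tmul_one, map_sum] at h2
  rw [Finset.smul_sum]
  refine Eq.trans (Finset.sum_congr rfl fun k _ => ?_) h2
  simp [J, TensorProduct.smul_tmul']

end Groth.Agent.FlatFam
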