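import Mathlib

/-!
Flatness of a module which agrees with a flat module modulo all powers of an ideal.
-/

set_option autoImplicit false
set_option linter.style.haveILetI false
set_option backward.isDefEq.respectTransparency false

universe u

open TensorProduct

namespace Groth.Agent.FlatFam

/-- A finite module over a Noetherian algebra which agrees with a flat module modulo all powers of
an ideal in the radical is flat. -/
theorem flat_of_mod_powers {A S P N : Type u} [CommRing A] [IsNoetherianRing A] [CommRing S]
    [IsNoetherianRing S] [Algebra A S] [AddCommGroup P] [Module A P] [Module.Flat A P]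
    [AddCommGroup N] [Module S N] [Module A N] [IsScalarTower A S N] [Module.Finite S N]
    (m : Ideal A) (hjac : m.map (algebraMap A S) ≤ Ideal.jacobson ⊥) (φ : P →ₗ[A] N)
    (hsurj : ∀ (n : ℕ) (c : N), ∃ r, c - φ r ∈ (m ^ n • ⊤ : Submodule A N))
    (hker : ∀ (n : ℕ) (r : P), φ r ∈ (m ^ n • ⊤ : Submodule A N) → r ∈ (m ^ n • ⊤ : Submodule A P)) :
    Module.Flat A N := by
  rw [Module.Flat.iff_lTensor_injective']
  intro q
  rw [injective_iff_map_eq_zero]
  intro t ht
  haveI : Module.Finite S (N ⊗[A] q) :=
    Module.Finite.equiv (AlgebraTensorModule.cancelBaseChange A S S N q)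
  obtain ⟨k, hk⟩ := Ideal.exists_pow_inf_eq_pow_smul m (q : Submodule A A)
  suffices H : ∀ n, k ≤ n → t ∈ (m.map (algebraMap A S)) ^ (n - k) • (⊤ : Submodule S (N ⊗[A] q)) by
    have hb := Ideal.iInf_pow_smul_eq_bot_of_le_jacobson (M := N ⊗[A] q)
      (m.map (algebraMap A S)) hjac
    rw [← Submodule.mem_bot S, ← hb, Submodule.mem_iInf]
    exact fun i => by simpa using H (i + k) (Nat.le_add_left k i)
  intro n hkn
  let p : q →ₗ[A] A ⧸ (m ^ n : Ideal A) := (Submodule.mkQ _).comp q.subtype
  let π : q →ₗ[A] LinearMap.range p := p.rangeRestrict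
  have hπ : Function.Surjective π := p.surjective_rangeRestrict
  have hex : Function.Exact (LinearMap.ker π).subtype π := LinearMap.exact_subtype_ker_map π
  have hzero : π.lTensor N t = 0 := by
    -- `φ` identifies the two reductions
    have hs : ∀ x : N ⊗[A] LinearMap.range p, ∃ y : P ⊗[A] LinearMap.range p,
        φ.rTensor _ y = x := by
      intro x
      induction x using TensorProduct.induction_on with
      | zero => exact ⟨0, map_zero _⟩
      | tmul c v =>
        obtain ⟨r, hr⟩ := hsurj n c
        refine ⟨r ⊗ₜ v, ?_⟩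
        have h0 : ∀ c' ∈ ((m ^ n : Ideal A) • ⊤ : Submodule A N), c' ⊗ₜ[A] v = 0 := by
          intro c' hc'
          induction hc' using Submodule.smul_induction_on' with
          | smul a ha x _ =>
            rw [TensorProduct.smul_tmul]
            have : a • v = 0 := by
              obtain ⟨w, hw⟩ := Submodule.mkQ_surjective _ v.1
              refine Subtype.ext ?_
              rw [Submodule.coe_smul, ← hw, ← map_smul, ZeroMemClass.coe_zero]
              exact (Submodule.Quotient.mk_eq_zero _).mpr (Ideal.mul_mem_right _ _ ha)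
            rw [this, TensorProduct.tmul_zero]
          | add x _ y _ hx hy => rw [TensorProduct.add_tmul, hx, hy, add_zero]
        have := h0 _ hr
        rw [TensorProduct.sub_tmul, sub_eq_zero] at this
        simp [this]
      | add x y hx hy =>
        obtain ⟨a, rfl⟩ := hx
        obtain ⟨b, rfl⟩ := hy
        exact ⟨a + b, map_add _ _ _⟩
    obtain ⟨y, hy⟩ := hs (π.lTensor N t)
    suffices y = 0 by rw [← hy, this, map_zero]
    apply Module.Flat.lTensor_preserves_injective_linearMap (LinearMap.range p).subtype
      (Submodule.injective_subtype _)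
    rw [map_zero]
    obtain ⟨r, hr⟩ : ∃ r : P, r ⊗ₜ[A] (Submodule.mkQ (m ^ n : Ideal A) 1) =
        (LinearMap.range p).subtype.lTensor P y := by
      generalize (LinearMap.range p).subtype.lTensor P y = z
      induction z using TensorProduct.induction_on with
      | zero => exact ⟨0, TensorProduct.zero_tmul _ _⟩
      | tmul r a =>
        obtain ⟨a, rfl⟩ := Submodule.mkQ_surjective _ a
        refine ⟨a • r, ?_⟩
        rw [TensorProduct.smul_tmul, ← map_smul, smul_eq_mul, mul_one]
      | add x y hx hy =>
        obtain ⟨a, ha⟩ := hx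
        obtain ⟨b, hb⟩ := hy
        exact ⟨a + b, by rw [TensorProduct.add_tmul, ha, hb]⟩
    rw [← hr]
    have h1 : φ r ⊗ₜ[A] (Submodule.mkQ (m ^ n : Ideal A) 1) = 0 := by
      have e1 := congrArg (φ.rTensor (A ⧸ (m ^ n : Ideal A))) hr
      rw [LinearMap.rTensor_tmul] at e1
      rw [e1, ← LinearMap.comp_apply, LinearMap.rTensor_comp_lTensor,
        ← LinearMap.lTensor_comp_rTensor, LinearMap.comp_apply, hy, ← LinearMap.lTensor_comp_apply,
        LinearMap.subtype_comp_codRestrict, LinearMap.lTensor_comp_apply, ht, map_zero]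
    have h2 : φ r ∈ ((m ^ n : Ideal A) • ⊤ : Submodule A N) := by
      have e := TensorProduct.tensorQuotEquivQuotSMul_tmul_mk (m ^ n : Ideal A) (φ r) 1
      rw [one_smul] at e
      have := (congrArg (TensorProduct.tensorQuotEquivQuotSMul N (m ^ n : Ideal A)) h1).trans (map_zero _)
      exact (Submodule.Quotient.mk_eq_zero _).mp (e.symm.trans this)
    have h3 : r ∈ ((m ^ n : Ideal A) • ⊤ : Submodule A P) := hker n r h2
    apply (TensorProduct.tensorQuotEquivQuotSMul P (m ^ n : Ideal A)).injective
    have e := TensorProduct.tensorQuotEquivQuotSMul_tmul_mk (m ^ n : Ideal A) r 1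
    rw [one_smul] at e
    exact (e.trans ((Submodule.Quotient.mk_eq_zero _).mpr h3)).trans (map_zero _).symm
  obtain ⟨w, rfl⟩ := (lTensor_exact N hex hπ t).mp hzero
  clear ht hzero
  induction w using TensorProduct.induction_on with
  | zero => simp
  | add x y hx hy => rw [map_add]; exact add_mem hx hy
  | tmul c x =>
    rw [LinearMap.lTensor_tmul]
    have hx : (x.1 : A) ∈ (m ^ n • ⊤ ⊓ q : Submodule A A) := by
      refine ⟨?_, x.1.2⟩
      have := x.2
      rw [LinearMap.mem_ker] at this
      have h0 : p x.1 = 0 := congrArg Subtype.val this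
      rw [smul_eq_mul, Ideal.mul_top]
      exact (Submodule.Quotient.mk_eq_zero _).mp h0
    rw [hk n hkn] at hx
    have key : ∀ a ∈ (m ^ (n - k) • (m ^ k • ⊤ ⊓ q) : Submodule A A), ∀ ha : a ∈ q,
        c ⊗ₜ[A] (⟨a, ha⟩ : q) ∈ (m.map (algebraMap A S)) ^ (n - k) • (⊤ : Submodule S (N ⊗[A] q)) := by
      intro a ha
      induction ha using Submodule.smul_induction_on' with
      | smul b hb y hy =>
        intro h
        have : (⟨b • y, h⟩ : q) = b • (⟨y, hy.2⟩ : q) := rfl
        rw [this, TensorProduct.tmul_smul, ← IsScalarTower.algebraMap_smul S b]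
        refine Submodule.smul_mem_smul ?_ trivial
        rw [← Ideal.map_pow]
        exact Ideal.mem_map_of_mem _ hb
      | add y hy z hz ihy ihz =>
        intro h
        have hy' : y ∈ q := (Submodule.smul_le_right.trans inf_le_right) hy
        have hz' : z ∈ q := (Submodule.smul_le_right.trans inf_le_right) hz
        have : (⟨y + z, h⟩ : q) = ⟨y, hy'⟩ + ⟨z, hz'⟩ := rfl
        rw [this, TensorProduct.tmul_add]
        exact add_mem (ihy hy') (ihz hz')
    exact key _ hx x.1.2

end Groth.Agent.FlatFam
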