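import Mathlib
import Groth.Agent.FlatFam.Key
import Groth.Agent.FlatFam.ModPowers

/-!
Flatness at a prime tested on a family of local base changes of the base.
-/

set_option autoImplicit false
set_option linter.style.haveILetI false
set_option backward.isDefEq.respectTransparency false

universe u

open TensorProduct IsLocalRing

namespace Groth.Agent.FlatFam

attribute [local instance] Algebra.TensorProduct.rightAlgebra

variable {A R : Type u} [CommRing A] [IsLocalRing A] [CommRing R] [Algebra A R]
  {M : Type u} [AddCommGroup M] [Module R M] [Module A M] [IsScalarTower A R M]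
  (q : Ideal R) [q.IsPrime]

local notation "lq" => LocalizedModule.mkLinearMap q.primeCompl M

omit [IsLocalRing A] in
theorem smul_mem_ideal_top (𝔡 : Ideal A) (t : R) {x : M} (hx : x ∈ 𝔡 • (⊤ : Submodule A M)) :
    t • x ∈ 𝔡 • (⊤ : Submodule A M) :=
  Submodule.smul_top_le_comap_smul_top 𝔡 ((LinearMap.lsmul R M t).restrictScalars A) hx

omit [IsLocalRing A] in
/-- Clearing the denominator of an element of an ideal times the localized module. -/
theorem exists_smul_eq_of_mem (𝔡 : Ideal A) (w : LocalizedModule q.primeCompl M)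
    (hw : w ∈ 𝔡 • (⊤ : Submodule A (LocalizedModule q.primeCompl M))) :
    ∃ t ∉ q, ∃ x ∈ 𝔡 • (⊤ : Submodule A M), t • w = lq x := by
  refine Submodule.smul_induction_on hw (fun d hd v _ => ?_) fun v w hv hw => ?_
  · obtain ⟨⟨y, t⟩, hy⟩ := IsLocalizedModule.surj q.primeCompl lq v
    refine ⟨t, t.2, d • y, Submodule.smul_mem_smul hd trivial, ?_⟩
    rw [LinearMap.map_smul_of_tower, ← hy, Submonoid.smul_def, smul_comm]
  · obtain ⟨t, ht, x, hx, h₁⟩ := hv
    obtain ⟨t', ht', x', hx', h₂⟩ := hw
    refine ⟨t' * t, Ideal.IsPrime.mul_notMem inferInstance ht' ht, t' • x + t • x', ?_, ?_⟩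
    · exact add_mem (smul_mem_ideal_top 𝔡 t' hx) (smul_mem_ideal_top 𝔡 t hx')
    · rw [smul_add, mul_smul, h₁, mul_comm, mul_smul, h₂, map_add, map_smul, map_smul]

variable [IsNoetherianRing R] [Module.Finite R M]

/-- Independence in the special fibre of the localized module. -/
theorem indep_of_residue (hq : q.comap (algebraMap A R) = maximalIdeal A) {K : Type u} [Fintype K]
    (n : K → LocalizedModule q.primeCompl M)
    (hn : ∀ c : K → A, ∑ k, c k • n k ∈
      maximalIdeal A • (⊤ : Submodule A (LocalizedModule q.primeCompl M)) →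
        ∀ k, c k ∈ maximalIdeal A)
    (m : K → M) (s : R) (hs : s ∉ q) (hm : ∀ k, lq (m k) = s • n k) :
    Indep (A := A) q m := by
  intro c hc
  refine hn c ?_
  let Rq := Localization.AtPrime q
  let N := LocalizedModule q.primeCompl M
  let J : Ideal Rq := (maximalIdeal A).map (algebraMap A Rq)
  let Q := N ⧸ (J • ⊤ : Submodule Rq N)
  let z : Q := Submodule.Quotient.mk (∑ k, c k • n k)
  have hz : z ∈ ⨅ j : ℕ, maximalIdeal Rq ^ j • (⊤ : Submodule Rq Q) := by
    rw [Submodule.mem_iInf]
    intro j
    obtain ⟨t, ht, htx⟩ := hc j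
    let I : Ideal R := q ^ j ⊔ (maximalIdeal A).map (algebraMap A R)
    have h1 : lq (t • ∑ k, c k • m k) ∈ I.map (algebraMap R Rq) • (⊤ : Submodule Rq N) := by
      refine Submodule.smul_induction_on htx (fun r hr v _ => ?_) fun v w hv hw => ?_
      · rw [map_smul, ← algebraMap_smul Rq r]
        exact Submodule.smul_mem_smul (Ideal.mem_map_of_mem _ hr) trivial
      · rw [map_add]
        exact add_mem hv hw
    have h2 : lq (t • ∑ k, c k • m k) = algebraMap R Rq (t * s) • ∑ k, c k • n k := by
      rw [algebraMap_smul, mul_smul, map_smul, map_sum, Finset.smul_sum (r := s)]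
      congr 1
      exact Finset.sum_congr rfl fun k _ => by
        rw [LinearMap.map_smul_of_tower, hm, smul_comm]
    have hu : IsUnit (algebraMap R Rq (t * s)) :=
      IsLocalization.map_units Rq (⟨t * s, Ideal.IsPrime.mul_notMem inferInstance ht hs⟩ : q.primeCompl)
    rw [h2] at h1
    have h3 : ∑ k, c k • n k ∈ I.map (algebraMap R Rq) • (⊤ : Submodule Rq N) := by
      have := Submodule.smul_mem _ ((hu.unit⁻¹ : Rqˣ) : Rq) h1
      rwa [smul_smul, IsUnit.val_inv_mul, one_smul] at this
    rw [Ideal.map_sup, Ideal.map_pow, IsLocalization.AtPrime.map_eq_maximalIdeal, Ideal.map_map,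
      ← IsScalarTower.algebraMap_eq, Submodule.sup_smul] at h3
    obtain ⟨a, ha, b, hb, hab⟩ := Submodule.mem_sup.1 h3
    have hb0 : (Submodule.Quotient.mk b : Q) = 0 := (Submodule.Quotient.mk_eq_zero _).2 hb
    show Submodule.Quotient.mk _ ∈ _
    rw [← hab, Submodule.Quotient.mk_add, hb0, add_zero]
    exact Submodule.smul_top_le_comap_smul_top _ (Submodule.mkQ (J • ⊤ : Submodule Rq N)) ha
  rw [Ideal.iInf_pow_smul_eq_bot_of_isLocalRing (maximalIdeal Rq)
    (Ideal.IsPrime.ne_top inferInstance), Submodule.mem_bot] at hz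
  have h4 : ∑ k, c k • n k ∈ (J • ⊤ : Submodule Rq N).restrictScalars A :=
    (Submodule.Quotient.mk_eq_zero _).1 hz
  rwa [Ideal.smul_restrictScalars, Submodule.restrictScalars_top] at h4

variable (M) in
/-- Independent vectors admit only trivial relations after base change. -/
def RelTrivial (B : Type u) [CommRing B] [Algebra A B] : Prop :=
  ∀ {K : Type u} [Fintype K] (m : K → M), Indep (A := A) q m → ∀ (𝔠 : Ideal B) (b : K → B),
    ∑ k, ((1 : R) ⊗ₜ[A] b k) • ((1 : R ⊗[A] B) ⊗ₜ[R] m k) ∈
      𝔠 • (⊤ : Submodule B ((R ⊗[A] B) ⊗[R] M)) → ∀ k, b k ∈ 𝔠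

variable {B : Type u} [CommRing B] [IsLocalRing B] [Algebra A B] [IsLocalHom (algebraMap A B)]

omit [IsNoetherianRing R] [Module.Finite R M] in
theorem relTrivial_of_flat
    (hflat : ∀ (P : Ideal (R ⊗[A] B)) [P.IsPrime], P.comap (algebraMap R (R ⊗[A] B)) = q →
      P.comap (algebraMap B (R ⊗[A] B)) = maximalIdeal B →
      Module.Flat B (LocalizedModule P.primeCompl ((R ⊗[A] B) ⊗[R] M))) :
    RelTrivial (A := A) M q B :=
  fun _ hind 𝔠 b hrel => mem_of_relation hind 𝔠 b hrel hflat

omit [IsLocalRing B] [IsLocalHom (algebraMap A B)] in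
/-- The coefficients of a relation vanish in every member of the family. -/
theorem coeff_mem_of_relation (hq : q.comap (algebraMap A R) = maximalIdeal A) {K : Type u}
    [Fintype K] (n : K → LocalizedModule q.primeCompl M)
    (hn : ∀ c : K → A, ∑ k, c k • n k ∈
      maximalIdeal A • (⊤ : Submodule A (LocalizedModule q.primeCompl M)) →
        ∀ k, c k ∈ maximalIdeal A)
    (c : K → A) (𝔡 : Ideal A) (𝔠 : Ideal B) (h𝔡 : 𝔡.map (algebraMap A B) ≤ 𝔠)
    (hrel : ∑ k, c k • n k ∈ 𝔡 • (⊤ : Submodule A (LocalizedModule q.primeCompl M)))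
    (hflat : RelTrivial (A := A) M q B) :
    ∀ k, algebraMap A B (c k) ∈ 𝔠 := by
  classical
  obtain ⟨s, hs⟩ := IsLocalizedModule.exist_integer_multiples q.primeCompl lq Finset.univ n
  choose m hm using fun k => hs k (Finset.mem_univ k)
  obtain ⟨t, ht, x₀, hx₀, htx⟩ := exists_smul_eq_of_mem q 𝔡 _ hrel
  have h0 : lq (t • ∑ k, c k • m k) = lq ((s : R) • x₀) := by
    rw [map_smul, map_smul, map_sum, ← htx, smul_comm (s : R) t, Finset.smul_sum (r := (s : R))]
    congr 1
    refine Finset.sum_congr rfl fun k _ => ?_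
    rw [LinearMap.map_smul_of_tower, hm, smul_comm]
  obtain ⟨t', ht'⟩ := (IsLocalizedModule.eq_iff_exists q.primeCompl lq).1 h0
  simp only [Submonoid.smul_def] at ht'
  let m' : K → M := fun k => ((t' : R) * t) • m k
  have hsum : ∑ k, c k • m' k = (t' : R) • (s : R) • x₀ := by
    rw [← ht', Finset.smul_sum, Finset.smul_sum]
    refine Finset.sum_congr rfl fun k _ => ?_
    show c k • ((t' : R) * t) • m k = (t' : R) • t • c k • m k
    rw [mul_smul, smul_comm (c k), smul_comm (c k)]
  have hmem : ∑ k, c k • m' k ∈ 𝔡 • (⊤ : Submodule A M) := by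
    rw [hsum]
    exact smul_mem_ideal_top 𝔡 _ (smul_mem_ideal_top 𝔡 _ hx₀)
  have hind : Indep (A := A) q m' := indep_of_residue q hq n hn m' ((t' : R) * t * s)
    (Ideal.IsPrime.mul_notMem inferInstance (Ideal.IsPrime.mul_notMem inferInstance t'.2 ht) s.2)
    fun k => by rw [map_smul, hm, ← mul_smul]
  refine hflat m' hind 𝔠 (fun k => algebraMap A B (c k)) ?_
  have hsm : ∀ (a : A) (y : M), ((1 : R) ⊗ₜ[A] algebraMap A B a) • ((1 : R ⊗[A] B) ⊗ₜ[R] y) =
      (1 : R ⊗[A] B) ⊗ₜ[R] (a • y) := by
    intro a y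
    rw [← algebraMap_smul R a y, TensorProduct.tmul_smul, TensorProduct.smul_tmul',
      TensorProduct.smul_tmul', smul_eq_mul, mul_one, Algebra.smul_def, mul_one,
      Algebra.TensorProduct.algebraMap_apply, Algebra.algebraMap_self, RingHom.id_apply,
      Algebra.algebraMap_eq_smul_one, Algebra.algebraMap_eq_smul_one, TensorProduct.smul_tmul]
  simp only [hsm, ← TensorProduct.tmul_sum]
  refine Submodule.smul_induction_on hmem (fun d hd y _ => ?_) fun v w hv hw => ?_
  · rw [← hsm, show ((1 : R) ⊗ₜ[A] algebraMap A B d : R ⊗[A] B) =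
      algebraMap B (R ⊗[A] B) (algebraMap A B d) from rfl, algebraMap_smul]
    exact Submodule.smul_mem_smul (h𝔡 (Ideal.mem_map_of_mem _ hd)) trivial
  · rw [TensorProduct.tmul_add]
    exact add_mem hv hw

variable (A M) in
/-- A family of lifts of a basis of the special fibre. -/
theorem exists_lifts : ∃ (J : Type u) (φ : (J →₀ A) →ₗ[A] LocalizedModule q.primeCompl M),
    LinearMap.range φ ⊔ maximalIdeal A • ⊤ = ⊤ ∧
      ∀ (s : Finset J) (c : ↥s → A), ∑ k, c k • φ (Finsupp.single k.1 1) ∈
        maximalIdeal A • (⊤ : Submodule A (LocalizedModule q.primeCompl M)) →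
          ∀ k, c k ∈ maximalIdeal A := by
  classical
  let N := LocalizedModule q.primeCompl M
  letI := Ideal.Quotient.field (maximalIdeal A)
  let Q := N ⧸ (maximalIdeal A • ⊤ : Submodule A N)
  let b := Module.Free.chooseBasis (A ⧸ maximalIdeal A) Q
  choose v hv using fun j => Submodule.Quotient.mk_surjective _ (b j)
  refine ⟨_, Finsupp.linearCombination A v, ?_, fun s c hc => ?_⟩
  · refine eq_top_iff.2 fun x _ => ?_
    obtain ⟨l, hl⟩ : ∃ l, Submodule.mkQ (maximalIdeal A • ⊤ : Submodule A N)
        (Finsupp.linearCombination A v l) = Submodule.Quotient.mk x := by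
      choose c hc using fun j => Ideal.Quotient.mk_surjective (b.repr (Submodule.Quotient.mk x) j)
      refine ⟨∑ j ∈ (b.repr (Submodule.Quotient.mk x)).support, Finsupp.single j (c j), ?_⟩
      conv_rhs => rw [← b.linearCombination_repr (Submodule.Quotient.mk x)]
      rw [map_sum, map_sum, Finsupp.linearCombination_apply, Finsupp.sum]
      refine Finset.sum_congr rfl fun j _ => ?_
      rw [Finsupp.linearCombination_single, map_smul, Submodule.mkQ_apply, hv, ← hc j,
        ← Ideal.Quotient.algebraMap_eq, algebraMap_smul]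
    refine Submodule.mem_sup.2 ⟨_, ⟨l, rfl⟩, x - Finsupp.linearCombination A v l, ?_, by abel⟩
    rw [← Submodule.Quotient.mk_eq_zero, Submodule.Quotient.mk_sub, ← hl, Submodule.mkQ_apply,
      sub_self]
  · have h0 : ∑ k, Ideal.Quotient.mk (maximalIdeal A) (c k) • b k.1 = 0 := by
      rw [← Submodule.Quotient.mk_eq_zero] at hc
      rw [← hc, ← Submodule.mkQ_apply, map_sum]
      refine Finset.sum_congr rfl fun k _ => ?_
      rw [map_smul, Submodule.mkQ_apply, Finsupp.linearCombination_single, one_smul, hv,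
        ← Ideal.Quotient.algebraMap_eq, algebraMap_smul]
    intro k
    exact Ideal.Quotient.eq_zero_iff_mem.1 (Fintype.linearIndependent_iff.1
      (b.linearIndependent.comp _ Subtype.val_injective) _ h0 k)

omit [IsNoetherianRing R] [Module.Finite R M] in
theorem range_sup_pow_smul {J : Type u} (φ : (J →₀ A) →ₗ[A] LocalizedModule q.primeCompl M)
    (h : LinearMap.range φ ⊔ maximalIdeal A • ⊤ = ⊤) :
    ∀ j : ℕ, LinearMap.range φ ⊔ maximalIdeal A ^ j • ⊤ = ⊤ := by
  intro j
  induction j with
  | zero => simp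
  | succ j ih =>
    refine eq_top_iff.2 (ih.ge.trans (sup_le le_sup_left ?_))
    refine (le_of_eq (congrArg (maximalIdeal A ^ j • ·) h.symm)).trans ?_
    rw [Submodule.smul_sup, ← Submodule.mul_smul, ← pow_succ]
    exact sup_le_sup Submodule.smul_le_right le_rfl

variable {ι : Type u} (C : ι → Type u) [∀ i, CommRing (C i)] [∀ i, IsLocalRing (C i)]
  [∀ i, Algebra A (C i)] [∀ i, IsLocalHom (algebraMap A (C i))]

omit [∀ i, IsLocalRing (C i)] [∀ i, IsLocalHom (algebraMap A (C i))] in
/-- Over a base with nilpotent maximal ideal, flatness at a prime follows from the triviality of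
relations in a separating family of algebras. -/
theorem flat_of_family' (hq : q.comap (algebraMap A R) = maximalIdeal A)
    (hnil : IsNilpotent (maximalIdeal A))
    (hsep : ∀ a : A, (∀ i, algebraMap A (C i) a = 0) → a = 0)
    (hrt : ∀ i, RelTrivial (A := A) M q (C i)) :
    Module.Flat A (LocalizedModule q.primeCompl M) := by
  classical
  obtain ⟨J, φ, hsup, hn⟩ := exists_lifts A M q
  obtain ⟨r, hr⟩ := hnil
  have hsurj : Function.Surjective φ := by
    rw [← LinearMap.range_eq_top]
    have := range_sup_pow_smul q φ hsup r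
    rwa [hr, Ideal.zero_eq_bot, Submodule.bot_smul, sup_bot_eq] at this
  have hinj : Function.Injective φ := by
    rw [injective_iff_map_eq_zero]
    intro l hl
    have hl' : ∑ k : l.support, l k.1 • φ (Finsupp.single k.1 1) = 0 := by
      rw [Finset.sum_coe_sort l.support fun j => l j • φ (Finsupp.single j 1)]
      simp only [← map_smul, ← map_sum, Finsupp.smul_single, smul_eq_mul, mul_one]
      exact (congrArg φ l.sum_single).trans hl
    ext j
    by_cases hj : j ∈ l.support
    · refine hsep _ fun i => ?_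
      have := coeff_mem_of_relation q hq (fun k : l.support => φ (Finsupp.single k.1 1))
        (hn l.support) (fun k => l k.1) ⊥ (⊥ : Ideal (C i)) (by simp) (by rw [hl']; exact zero_mem _) (hrt i)
        ⟨j, hj⟩
      simpa using this
    · simpa using hj
  exact Module.Flat.of_linearEquiv (LinearEquiv.ofBijective φ ⟨hinj, hsurj⟩).symm

/-- Over a base with nilpotent maximal ideal, flatness at a prime follows from flatness above it
for a separating family of local algebras. -/
theorem flat_of_family (hq : q.comap (algebraMap A R) = maximalIdeal A)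
    (hnil : IsNilpotent (maximalIdeal A))
    (hsep : ∀ a : A, (∀ i, algebraMap A (C i) a = 0) → a = 0)
    (hflat : ∀ i (P : Ideal (R ⊗[A] C i)) [P.IsPrime], P.comap (algebraMap R (R ⊗[A] C i)) = q →
      P.comap (algebraMap (C i) (R ⊗[A] C i)) = maximalIdeal (C i) →
      Module.Flat (C i) (LocalizedModule P.primeCompl ((R ⊗[A] C i) ⊗[R] M))) :
    Module.Flat A (LocalizedModule q.primeCompl M) :=
  flat_of_family' q C hq hnil hsep fun i => relTrivial_of_flat q (hflat i)

/-- Over a Noetherian base, flatness at a prime follows from the triviality of relations in a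
family of local algebras inducing the adic topology. -/
theorem flat_of_family_adic' [IsNoetherianRing A] (hq : q.comap (algebraMap A R) = maximalIdeal A)
    (htop : ∀ j : ℕ, ∃ s : Finset (ι × ℕ), ⨅ p ∈ s,
      Ideal.comap (algebraMap A (C p.1)) (maximalIdeal (C p.1) ^ p.2) ≤ maximalIdeal A ^ j)
    (hrt : ∀ i, RelTrivial (A := A) M q (C i)) :
    Module.Flat A (LocalizedModule q.primeCompl M) := by
  classical
  obtain ⟨J, φ, hsup, hn⟩ := exists_lifts A M q
  have hpow := range_sup_pow_smul q φ hsup
  refine flat_of_mod_powers (S := Localization.AtPrime q) (maximalIdeal A) ?_ φ (fun j x => ?_)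
    fun j l hl => ?_
  · rw [IsLocalRing.jacobson_eq_maximalIdeal ⊥ bot_ne_top,
      IsScalarTower.algebraMap_eq A R (Localization.AtPrime q), ← Ideal.map_map,
      ← IsLocalization.AtPrime.map_eq_maximalIdeal q (Localization.AtPrime q)]
    exact Ideal.map_mono (Ideal.map_le_iff_le_comap.2 hq.ge)
  · obtain ⟨_, ⟨r, rfl⟩, y, hy, rfl⟩ := Submodule.mem_sup.1
      ((hpow j).ge (Submodule.mem_top : x ∈ ⊤))
    exact ⟨r, by simpa using hy⟩
  obtain ⟨s, hs⟩ := htop j
  let d := s.sup Prod.snd
  have hsplit : φ l ∈ Submodule.map φ (maximalIdeal A ^ j • ⊤) ⊔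
      maximalIdeal A ^ (j + d) • ⊤ := by
    rw [Submodule.map_smul'', Submodule.map_top, pow_add, Submodule.mul_smul, ← Submodule.smul_sup,
      hpow d]
    exact hl
  obtain ⟨_, ⟨l', hl', rfl⟩, y, hy, hly⟩ := Submodule.mem_sup.1 hsplit
  suffices l - l' ∈ maximalIdeal A ^ j • (⊤ : Submodule A (J →₀ A)) by
    simpa using add_mem this hl'
  let e := l - l'
  have he : φ e = y := by rw [map_sub, ← hly]; abel
  have hcoef : ∀ k : e.support, e k.1 ∈ maximalIdeal A ^ j := by
    intro k
    refine hs ?_
    simp only [Submodule.mem_iInf, Ideal.mem_comap]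
    intro p hp
    refine coeff_mem_of_relation q hq (fun k : e.support => φ (Finsupp.single k.1 1))
      (hn e.support) (fun k => e k.1) (maximalIdeal A ^ p.2) (maximalIdeal (C p.1) ^ p.2) ?_ ?_
      (hrt p.1) k
    · rw [Ideal.map_pow]
      refine Ideal.pow_right_mono ?_ _
      exact Ideal.map_le_iff_le_comap.2 fun a ha => (mem_maximalIdeal _).2 fun h =>
        (mem_maximalIdeal _).1 ha (isUnit_of_map_unit (algebraMap A (C p.1)) _ h)
    · have h1 : ∑ k : e.support, e k.1 • φ (Finsupp.single k.1 1) = y := by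
        rw [Finset.sum_coe_sort e.support fun j => e j • φ (Finsupp.single j 1)]
        simp only [← map_smul, ← map_sum, Finsupp.smul_single, smul_eq_mul, mul_one]
        exact (congrArg φ e.sum_single).trans he
      rw [h1]
      exact Submodule.smul_mono_left
        (Ideal.pow_le_pow_right ((Finset.le_sup (f := Prod.snd) hp).trans (Nat.le_add_left _ _))) hy
  rw [show l - l' = e from rfl, ← e.sum_single]
  refine Submodule.sum_mem _ fun k hk => ?_
  rw [← mul_one (e k), ← smul_eq_mul, ← Finsupp.smul_single]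
  exact Submodule.smul_mem_smul (hcoef ⟨k, hk⟩) trivial

/-- Over a Noetherian base, flatness at a prime follows from flatness above it for a family of
local algebras inducing the adic topology. -/
theorem flat_of_family_adic [IsNoetherianRing A] (hq : q.comap (algebraMap A R) = maximalIdeal A)
    (htop : ∀ j : ℕ, ∃ s : Finset (ι × ℕ), ⨅ p ∈ s,
      Ideal.comap (algebraMap A (C p.1)) (maximalIdeal (C p.1) ^ p.2) ≤ maximalIdeal A ^ j)
    (hflat : ∀ i (P : Ideal (R ⊗[A] C i)) [P.IsPrime], P.comap (algebraMap R (R ⊗[A] C i)) = q →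
      P.comap (algebraMap (C i) (R ⊗[A] C i)) = maximalIdeal (C i) →
      Module.Flat (C i) (LocalizedModule P.primeCompl ((R ⊗[A] C i) ⊗[R] M))) :
    Module.Flat A (LocalizedModule q.primeCompl M) := by
  exact flat_of_family_adic' q C hq htop fun i => relTrivial_of_flat q (hflat i)

end Groth.Agent.FlatFam
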