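import Mathlib
import Groth.Agent.PullbackMod.Flat
import Groth.Agent.PullbackMod.Sections

/-!
Flatness at the points of a fibre product as flatness at primes of a tensor product.
-/

set_option autoImplicit false
set_option linter.style.haveILetI false
set_option backward.isDefEq.respectTransparency false

universe u

open CategoryTheory CategoryTheory.Limits AlgebraicGeometry TopologicalSpace Opposite TensorProduct
open Groth.Agent.CohBase Groth.Agent.QCohLib Groth.Agent.PullbackMod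

namespace Groth.Agent.FlatFam

attribute [local instance] Algebra.TensorProduct.rightAlgebra

/-- Flatness of a localized module is invariant under semilinear equivalences. -/
theorem flat_localized_transfer {C S S' N N' : Type u} [CommRing C] [CommRing S] [CommRing S']
    [Algebra C S] [Algebra C S'] (ε : S ≃+* S') (hε : ∀ c, ε (algebraMap C S c) = algebraMap C S' c)
    [AddCommGroup N] [Module S N] [Module C N] [IsScalarTower C S N] [AddCommGroup N'] [Module S' N'] [Module C N']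
    [IsScalarTower C S' N'] (e : N ≃+ N') (he : ∀ (s : S) m, e (s • m) = ε s • e m)
    (P : Ideal S) [P.IsPrime] (P' : Ideal S') [P'.IsPrime] (hP : P'.comap ε.toRingHom = P)
    [Module.Flat C (LocalizedModule P'.primeCompl N')] :
    Module.Flat C (LocalizedModule P.primeCompl N) := by
  let L := LocalizedModule P'.primeCompl N'
  let l' := LocalizedModule.mkLinearMap P'.primeCompl N'
  letI : Module S L := Module.compHom L ε.toRingHom
  haveI : IsScalarTower C S L := .of_algebraMap_smul fun c z => by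
    show ε (algebraMap C S c) • z = c • z
    rw [hε, algebraMap_smul]
  let g : N →ₗ[S] L :=
    { toFun := fun m => l' (e m)
      map_add' := fun a b => by rw [map_add, map_add]
      map_smul' := fun s m => by rw [he, map_smul]; rfl }
  have hmem : ∀ s : S, ε s ∈ P'.primeCompl ↔ s ∈ P.primeCompl := fun s => by
    show ε s ∉ P' ↔ s ∉ P
    rw [← hP]
    exact Iff.rfl
  haveI : IsLocalizedModule P.primeCompl g := by
    refine ⟨fun s => ?_, fun y => ?_, fun {x₁ x₂} h => ?_⟩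
    · rw [Module.End.isUnit_iff]
      have h := (Module.End.isUnit_iff _).1
        (IsLocalizedModule.map_units l' ⟨ε s, (hmem s).2 s.2⟩)
      exact h
    · obtain ⟨⟨x, s, hs⟩, hx⟩ := IsLocalizedModule.surj P'.primeCompl l' y
      obtain ⟨t, rfl⟩ := ε.surjective s
      obtain ⟨x, rfl⟩ := e.surjective x
      exact ⟨⟨x, t, (hmem t).1 hs⟩, hx⟩
    · obtain ⟨⟨s, hs⟩, h⟩ := (IsLocalizedModule.eq_iff_exists P'.primeCompl l').1 h
      obtain ⟨t, rfl⟩ := ε.surjective s
      refine ⟨⟨t, (hmem t).1 hs⟩, e.injective ?_⟩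
      show e (t • x₁) = e (t • x₂)
      rw [he, he]
      exact h
  exact Module.Flat.of_linearEquiv ((IsLocalizedModule.iso P.primeCompl g).restrictScalars C)

variable {X X' Y Y' : Scheme.{u}} {f : X ⟶ Y} {g : Y' ⟶ Y} {g' : X' ⟶ X} {f' : X' ⟶ Y'}
  (hc : IsPullback g' f' f g) (F : X.Modules) [Coh.IsQCoh F]
  {V : Y.Opens} {W : X.Opens} {V' : Y'.Opens}

include hc in
/-- Flatness at the primes of the tensor product over two given points. -/
theorem flat_localized_of_points (hV : IsAffineOpen V) (hW : IsAffineOpen W)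
    (hV' : IsAffineOpen V') (e : W ≤ f ⁻¹ᵁ V) (e' : V' ≤ g ⁻¹ᵁ V) (x : X) (hx : x ∈ W)
    (y' : Y') (hy' : y' ∈ V')
    (hflat : ∀ x' : X', g' x' = x → f' x' = y' →
      FlatMod.IsFlatOverAt f' ((Scheme.Modules.pullback g').obj F) x') :
    letI : Algebra Γ(Y, V) Γ(X, W) := (f.appLE V W e).hom.toAlgebra
    letI : Algebra Γ(Y, V) Γ(Y', V') := (g.appLE V V' e').hom.toAlgebra
    ∀ (P : Ideal (Γ(X, W) ⊗[Γ(Y, V)] Γ(Y', V'))) [P.IsPrime],
      P.comap (algebraMap Γ(X, W) (Γ(X, W) ⊗[Γ(Y, V)] Γ(Y', V'))) =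
          (hW.primeIdealOf ⟨x, hx⟩).asIdeal →
      P.comap (algebraMap Γ(Y', V') (Γ(X, W) ⊗[Γ(Y, V)] Γ(Y', V'))) =
          (hV'.primeIdealOf ⟨y', hy'⟩).asIdeal →
      Module.Flat Γ(Y', V') (LocalizedModule P.primeCompl
        ((Γ(X, W) ⊗[Γ(Y, V)] Γ(Y', V')) ⊗[Γ(X, W)] Γ(F, W))) := by
  letI : Algebra Γ(Y, V) Γ(X, W) := (f.appLE V W e).hom.toAlgebra
  letI : Algebra Γ(Y, V) Γ(Y', V') := (g.appLE V V' e').hom.toAlgebra
  intro P _ hPq hPy
  obtain ⟨hW', hpo⟩ := isPushout_appLE hc hV hW hV' e e'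
  let W' := g' ⁻¹ᵁ W ⊓ f' ⁻¹ᵁ V'
  letI : Algebra Γ(X, W) Γ(X', W') := (g'.appLE W W' inf_le_left).hom.toAlgebra
  letI : Algebra Γ(Y', V') Γ(X', W') := (f'.appLE V' W' inf_le_right).hom.toAlgebra
  letI : Algebra Γ(Y, V) Γ(X', W') :=
    ((g'.appLE W W' inf_le_left).hom.comp (f.appLE V W e).hom).toAlgebra
  haveI : IsScalarTower Γ(Y, V) Γ(X, W) Γ(X', W') := .of_algebraMap_eq fun _ => rfl
  haveI : IsScalarTower Γ(Y, V) Γ(Y', V') Γ(X', W') := .of_algebraMap_eq' (by
    show ((f.appLE V W e) ≫ g'.appLE W _ inf_le_left).hom =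
      ((g.appLE V V' e') ≫ f'.appLE V' _ inf_le_right).hom
    simp only [Scheme.Hom.appLE_comp_appLE, hc.w])
  haveI := hpo.symm
  let ε : Γ(X, W) ⊗[Γ(Y, V)] Γ(Y', V') ≃ₐ[Γ(X, W)] Γ(X', W') :=
    Algebra.IsPushout.equiv Γ(Y, V) Γ(X, W) Γ(Y', V') _
  have hεC : ∀ c, ε (algebraMap Γ(Y', V') _ c) = algebraMap Γ(Y', V') Γ(X', W') c := fun c => by
    show ε ((1 : Γ(X, W)) ⊗ₜ c) = _
    rw [Algebra.IsPushout.equiv_tmul, map_one, one_mul]
  let P' : Ideal Γ(X', W') := P.comap ε.symm.toAlgHom.toRingHom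
  haveI : P'.IsPrime := Ideal.comap_isPrime _ _
  have hPP' : P'.comap ε.toRingEquiv.toRingHom = P := by
    ext s
    show ε.symm (ε s) ∈ P ↔ s ∈ P
    rw [AlgEquiv.symm_apply_apply]
  let x' : X' := hW'.fromSpec ⟨P', inferInstance⟩
  have hx' : x' ∈ W' := hW'.range_fromSpec.le ⟨_, rfl⟩
  have hprime : hW'.primeIdealOf ⟨x', hx'⟩ = ⟨P', inferInstance⟩ :=
    hW'.fromSpec.isOpenEmbedding.injective (hW'.fromSpec_primeIdealOf _)
  have hgx : g' x' = x := by
    have h1 := IsAffineOpen.comap_primeIdealOf_appLE (f := g') W hW W' hW' inf_le_left hx'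
    have h2 : hW.primeIdealOf ⟨g' x', hx'.1⟩ = hW.primeIdealOf ⟨x, hx⟩ := by
      rw [← h1, hprime]
      refine PrimeSpectrum.ext (Eq.trans ?_ hPq)
      ext r
      show ε.symm (algebraMap Γ(X, W) Γ(X', W') r) ∈ P ↔ _
      rw [AlgEquiv.commutes]
      rfl
    simpa [hW.fromSpec_primeIdealOf] using congrArg hW.fromSpec h2
  have hfx : f' x' = y' := by
    have h1 := IsAffineOpen.comap_primeIdealOf_appLE (f := f') V' hV' W' hW' inf_le_right hx'
    have h2 : hV'.primeIdealOf ⟨f' x', hx'.2⟩ = hV'.primeIdealOf ⟨y', hy'⟩ := by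
      rw [← h1, hprime]
      refine PrimeSpectrum.ext (Eq.trans ?_ hPy)
      ext r
      show ε.symm (algebraMap Γ(Y', V') Γ(X', W') r) ∈ P ↔ _
      rw [← hεC, AlgEquiv.symm_apply_apply]
      rfl
    simpa [hV'.fromSpec_primeIdealOf] using congrArg hV'.fromSpec h2
  haveI := isQCoh_pullback g' F
  let M' := Γ((Scheme.Modules.pullback g').obj F, W')
  letI : Module Γ(X, W) M' := Module.compHom _ (g'.appLE W W' inf_le_left).hom
  haveI : IsScalarTower Γ(X, W) Γ(X', W') M' := .of_algebraMap_smul fun _ _ => rfl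
  letI : Module Γ(Y', V') M' := Module.compHom _ (f'.appLE V' W' inf_le_right).hom
  haveI : IsScalarTower Γ(Y', V') Γ(X', W') M' := .of_algebraMap_smul fun _ _ => rfl
  have hfl := (FlatLocus.isFlatOverAt_iff f' _ hV' hW' inf_le_right x' hx').1 (hflat x' hgx hfx)
  rw [hprime] at hfl
  haveI : Module.Flat Γ(Y', V') (LocalizedModule P'.primeCompl M') := hfl
  have hb := isBaseChange_pullMapL g' F hW hW' (inf_le_left (b := f' ⁻¹ᵁ V'))
  let em : (Γ(X, W) ⊗[Γ(Y, V)] Γ(Y', V')) ⊗[Γ(X, W)] Γ(F, W) ≃ₗ[Γ(X, W)] M' :=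
    (TensorProduct.congr ε.toLinearEquiv (LinearEquiv.refl _ _)).trans
      (hb.equiv.restrictScalars Γ(X, W))
  refine flat_localized_transfer (N' := M') ε.toRingEquiv hεC em.toAddEquiv (fun s m => ?_) P P' hPP'
  show em (s • m) = ε s • em m
  induction m using TensorProduct.induction_on with
  | zero => simp
  | tmul b p =>
    show hb.equiv (ε (s * b) ⊗ₜ[Γ(X, W)] p) = ε s • hb.equiv (ε b ⊗ₜ[Γ(X, W)] p)
    rw [map_mul, ← smul_eq_mul, ← TensorProduct.smul_tmul', map_smul]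
  | add a b ha hb' => simp only [smul_add, map_add, ha, hb']

end Groth.Agent.FlatFam
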