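import Mathlib
import Groth.Agent.FlatFam.Alg
import Groth.Agent.FlatFam.Points
import Groth.Agent.QCohLib.Coherent

/-!
Flatness over a local base tested on a family of local base changes.
-/

set_option autoImplicit false
set_option linter.style.haveILetI false
set_option backward.isDefEq.respectTransparency false

universe u

open CategoryTheory CategoryTheory.Limits AlgebraicGeometry TopologicalSpace Opposite TensorProduct
open IsLocalRing Groth.Agent.CohBase Groth.Agent.QCohLib Groth.Agent.PullbackMod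

namespace Groth.Agent.FlatFam

/-- The functions on the spectrum of a ring are the ring. -/
noncomputable abbrev sigma (R : Type u) [CommRing R] : Γ(Spec (CommRingCat.of R), ⊤) ≃+* R :=
  (Scheme.ΓSpecIso (CommRingCat.of R)).commRingCatIsoToRingEquiv

theorem appLE_specMap {A B : Type u} [CommRing A] [CommRing B] (φ : A →+* B)
    (a : Γ(Spec (CommRingCat.of A), ⊤)) :
    sigma B ((Spec.map (CommRingCat.ofHom φ)).appLE ⊤ ⊤ le_top a) = φ (sigma A a) := by
  show (Scheme.ΓSpecIso (CommRingCat.of B)).hom ((Spec.map (CommRingCat.ofHom φ)).appLE ⊤ ⊤ le_top a) =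
    (CommRingCat.ofHom φ) ((Scheme.ΓSpecIso (CommRingCat.of A)).hom a)
  rw [← CommRingCat.comp_apply, ← CommRingCat.comp_apply,
    ← Scheme.ΓSpecIso_naturality (CommRingCat.ofHom φ)]
  rw [Scheme.Hom.appLE]
  simp [Scheme.Hom.appTop]

theorem primeIdealOf_closedPoint (R : Type u) [CommRing R] [IsLocalRing R]
    [IsLocalRing Γ(Spec (CommRingCat.of R), ⊤)] :
    ((isAffineOpen_top (Spec (CommRingCat.of R))).primeIdealOf
      ⟨(IsLocalRing.closedPoint R : ↥(Spec (CommRingCat.of R))), trivial⟩).asIdeal =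
      maximalIdeal Γ(Spec (CommRingCat.of R), ⊤) :=
  IsLocalRing.eq_maximalIdeal <| (isAffineOpen_top _).primeIdealOf_isMaximal_of_isClosed _
    (IsLocalRing.isClosed_singleton_closedPoint R)

variable {A : Type u} [CommRing A] [IsLocalRing A] [IsNoetherianRing A] {X : Scheme.{u}}
  (f : X ⟶ Spec (CommRingCat.of A)) [LocallyOfFiniteType f] (F : X.Modules) (hF : Coh.IsCoh F)
  (x : X) {ι : Type u} (C : ι → Type u) [∀ i, CommRing (C i)] [∀ i, IsLocalRing (C i)]
  (u : ∀ i, A →+* C i)
  (hflat : ∀ (i : ι) (x' : ↥(pullback f (Spec.map (CommRingCat.ofHom (u i))))),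
    pullback.fst f (Spec.map (CommRingCat.ofHom (u i))) x' = x →
    pullback.snd f (Spec.map (CommRingCat.ofHom (u i))) x' = IsLocalRing.closedPoint (C i) →
    FlatMod.IsFlatOverAt (pullback.snd f (Spec.map (CommRingCat.ofHom (u i))))
      ((Scheme.Modules.pullback (pullback.fst f (Spec.map (CommRingCat.ofHom (u i))))).obj F) x')

theorem isLocalRing_gamma (R : Type u) [CommRing R] [IsLocalRing R] :
    IsLocalRing Γ(Spec (CommRingCat.of R), ⊤) :=
  (sigma R).symm.isLocalRing

include hF hflat in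
/-- Nilpotent maximal ideal and a separating family. -/
theorem isFlatOverAt_of_family (hnil : IsNilpotent (maximalIdeal A))
    (hu : ∀ a : A, (∀ i, u i a = 0) → a = 0) : FlatMod.IsFlatOverAt f F x := by
  haveI : Coh.IsQCoh F := hF.1
  obtain ⟨_, ⟨W : X.Opens, (hW : IsAffineOpen W), rfl⟩, hxW, -⟩ :=
    X.isBasis_affineOpens.exists_subset_of_mem_open (Set.mem_univ x) isOpen_univ
  have hV := isAffineOpen_top (Spec (CommRingCat.of A))
  rw [FlatLocus.isFlatOverAt_iff f F hV hW le_top x hxW]
  let A' := Γ(Spec (CommRingCat.of A), ⊤)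
  haveI : IsLocalRing A' := isLocalRing_gamma A
  haveI : IsNoetherianRing A' := isNoetherianRing_of_ringEquiv A (sigma A).symm
  letI : Algebra A' Γ(X, W) := (f.appLE ⊤ W le_top).hom.toAlgebra
  haveI : Algebra.FiniteType A' Γ(X, W) :=
    LocallyOfFiniteType.finiteType_appLE (f := f) hV hW le_top
  haveI : IsNoetherianRing Γ(X, W) := Algebra.FiniteType.isNoetherianRing A' _
  haveI : Module.Finite Γ(X, W) Γ(F, W) := QCohLib.finite_sections_of_isCoh hF hW
  letI : Module A' Γ(F, W) := Module.compHom _ (f.appLE ⊤ W le_top).hom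
  haveI : IsScalarTower A' Γ(X, W) Γ(F, W) := .of_algebraMap_smul fun _ _ => rfl
  let C' : ι → Type u := fun i => Γ(Spec (CommRingCat.of (C i)), ⊤)
  haveI : ∀ i, IsLocalRing (C' i) := fun i => isLocalRing_gamma (C i)
  letI : ∀ i, Algebra A' (C' i) := fun i =>
    ((Spec.map (CommRingCat.ofHom (u i))).appLE ⊤ ⊤ le_top).hom.toAlgebra
  have hnil' : ∀ a : A', a ∈ maximalIdeal A' → IsNilpotent a := by
    intro a ha
    have h1 : IsNilpotent (sigma A a) := by
      obtain ⟨r, hr⟩ := hnil
      refine ⟨r, ?_⟩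
      have := Ideal.pow_mem_pow (show sigma A a ∈ maximalIdeal A from
        (mem_maximalIdeal _).2 fun h => (mem_maximalIdeal _).1 ha (by simpa using h.map (sigma A).symm)) r
      rwa [hr, Ideal.zero_eq_bot, Ideal.mem_bot] at this
    simpa using h1.map (sigma A).symm
  haveI : ∀ i, IsLocalHom (algebraMap A' (C' i)) := fun i => ⟨fun a ha => by
    by_contra hcon
    exact (IsNilpotent.map (hnil' a ((mem_maximalIdeal _).2 hcon)) (algebraMap A' (C' i))).not_isUnit ha⟩
  have hmq : ∀ q : Ideal A', q.IsPrime → q = maximalIdeal A' := fun q hq =>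
    le_antisymm (IsLocalRing.le_maximalIdeal hq.ne_top) fun a ha => by
      obtain ⟨r, hr⟩ := hnil' a ha
      exact hq.mem_of_pow_mem r (hr ▸ q.zero_mem)
  have hnilA : IsNilpotent (maximalIdeal A') := by
    rw [Ideal.FG.isNilpotent_iff_le_nilradical (IsNoetherian.noetherian (maximalIdeal A'))]
    exact fun a ha => hnil' a ha
  refine flat_of_family (hW.primeIdealOf ⟨x, hxW⟩).asIdeal C' (hmq _ (Ideal.comap_isPrime _ _))
    hnilA (fun a ha => ?_) fun i P _ hPq hPy => ?_
  · refine (sigma A).injective (Eq.trans (hu _ fun i => ?_) (map_zero _).symm)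
    rw [← appLE_specMap]
    exact (congrArg (sigma (C i)) (ha i)).trans (map_zero _)
  · exact flat_localized_of_points (IsPullback.of_hasPullback f (Spec.map (CommRingCat.ofHom (u i))))
      F hV hW (isAffineOpen_top _) le_top le_top x hxW (IsLocalRing.closedPoint (C i)) trivial
      (hflat i) P hPq (hPy.trans (primeIdealOf_closedPoint (C i)).symm)

include hF hflat in
/-- A family inducing the adic topology. -/
theorem isFlatOverAt_of_family_adic (hx : f x = IsLocalRing.closedPoint A)
    [∀ i, IsLocalHom (u i)]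
    (htop : ∀ j : ℕ, ∃ s : Finset (ι × ℕ), ⨅ p ∈ s,
      Ideal.comap (u p.1) (maximalIdeal (C p.1) ^ p.2) ≤ maximalIdeal A ^ j) :
    FlatMod.IsFlatOverAt f F x := by
  haveI : Coh.IsQCoh F := hF.1
  obtain ⟨_, ⟨W : X.Opens, (hW : IsAffineOpen W), rfl⟩, hxW, -⟩ :=
    X.isBasis_affineOpens.exists_subset_of_mem_open (Set.mem_univ x) isOpen_univ
  have hV := isAffineOpen_top (Spec (CommRingCat.of A))
  rw [FlatLocus.isFlatOverAt_iff f F hV hW le_top x hxW]
  let A' := Γ(Spec (CommRingCat.of A), ⊤)
  haveI : IsLocalRing A' := isLocalRing_gamma A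
  haveI : IsNoetherianRing A' := isNoetherianRing_of_ringEquiv A (sigma A).symm
  letI : Algebra A' Γ(X, W) := (f.appLE ⊤ W le_top).hom.toAlgebra
  haveI : Algebra.FiniteType A' Γ(X, W) :=
    LocallyOfFiniteType.finiteType_appLE (f := f) hV hW le_top
  haveI : IsNoetherianRing Γ(X, W) := Algebra.FiniteType.isNoetherianRing A' _
  haveI : Module.Finite Γ(X, W) Γ(F, W) := QCohLib.finite_sections_of_isCoh hF hW
  letI : Module A' Γ(F, W) := Module.compHom _ (f.appLE ⊤ W le_top).hom
  haveI : IsScalarTower A' Γ(X, W) Γ(F, W) := .of_algebraMap_smul fun _ _ => rfl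
  let C' : ι → Type u := fun i => Γ(Spec (CommRingCat.of (C i)), ⊤)
  haveI : ∀ i, IsLocalRing (C' i) := fun i => isLocalRing_gamma (C i)
  letI : ∀ i, Algebra A' (C' i) := fun i =>
    ((Spec.map (CommRingCat.ofHom (u i))).appLE ⊤ ⊤ le_top).hom.toAlgebra
  haveI : ∀ i, IsLocalHom (algebraMap A' (C' i)) := fun i => ⟨fun a ha => by
    have h1 : IsUnit (u i (sigma A a)) := by
      rw [← appLE_specMap]
      exact ha.map (sigma (C i))
    simpa using (isUnit_of_map_unit (u i) _ h1).map (sigma A).symm⟩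
  have hmA : (maximalIdeal A).comap (sigma A).toRingHom = maximalIdeal A' := by
    refine IsLocalRing.eq_maximalIdeal (Ideal.comap_isMaximal_of_surjective _ (sigma A).surjective)
  have hmC : ∀ i, (maximalIdeal (C i)).comap (sigma (C i)).toRingHom = maximalIdeal (C' i) :=
    fun i => IsLocalRing.eq_maximalIdeal
      (Ideal.comap_isMaximal_of_surjective _ (sigma (C i)).surjective)
  refine flat_of_family_adic (hW.primeIdealOf ⟨x, hxW⟩).asIdeal C' ?_ (fun j => ?_)
    fun i P _ hPq hPy => ?_
  · have h1 := congrArg PrimeSpectrum.asIdeal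
      (IsAffineOpen.comap_primeIdealOf_appLE (f := f) ⊤ hV W hW le_top (x := x) hxW)
    refine h1.trans ?_
    rw [show (⟨f x, trivial⟩ : (⊤ : (Spec (CommRingCat.of A)).Opens)) =
      ⟨(IsLocalRing.closedPoint A : ↥(Spec (CommRingCat.of A))), trivial⟩ from Subtype.ext hx]
    exact primeIdealOf_closedPoint A
  · obtain ⟨s, hs⟩ := htop j
    refine ⟨s, fun a ha => ?_⟩
    have h1 : sigma A a ∈ maximalIdeal A ^ j := hs (by
      simp only [Submodule.mem_iInf, Ideal.mem_comap] at ha ⊢
      intro p hp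
      have := Ideal.mem_map_of_mem (sigma (C p.1)).toRingHom (ha p hp)
      rw [Ideal.map_pow, ← hmC,
        Ideal.map_comap_of_surjective (sigma (C p.1)).toRingHom (sigma (C p.1)).surjective] at this
      rw [← appLE_specMap]
      exact this)
    have h2 := Ideal.mem_map_of_mem (sigma A).symm.toRingHom h1
    rw [Ideal.map_pow] at h2
    have h3 : (maximalIdeal A).map (sigma A).symm.toRingHom = maximalIdeal A' := by
      rw [← hmA]; exact Ideal.map_symm _
    rwa [h3, RingEquiv.toRingHom_eq_coe, RingEquiv.coe_toRingHom, RingEquiv.symm_apply_apply] at h2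
  · exact flat_localized_of_points (IsPullback.of_hasPullback f (Spec.map (CommRingCat.ofHom (u i))))
      F hV hW (isAffineOpen_top _) le_top le_top x hxW (IsLocalRing.closedPoint (C i)) trivial
      (hflat i) P hPq (hPy.trans (primeIdealOf_closedPoint (C i)).symm)

end Groth.Agent.FlatFam
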