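import Mathlib
import Groth.Agent.FlatFam.Sch
import Groth.Agent.PullbackMod.Props
import Groth.Agent.PullbackMod.FibreLocus
import Groth.Agent.IntImage.Spread

/-!
Flatness tested on families of base changes, over a general base.
-/

set_option autoImplicit false
set_option linter.style.haveILetI false
set_option backward.isDefEq.respectTransparency false

universe u

open CategoryTheory CategoryTheory.Limits AlgebraicGeometry TopologicalSpace Opposite
open IsLocalRing Groth.Agent.CohBase Groth.Agent.QCohLib Groth.Agent.PullbackMod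

namespace Groth.Agent.FlatFam

variable {X Y : Scheme.{u}}

/-- Flatness after a base change passes to a further base change, at corresponding points. -/
theorem isFlatOverAt_iterate {X₁ Y₁ X₂ Y₂ : Scheme.{u}} {a : X₁ ⟶ X} {b : X₁ ⟶ Y₁} {f : X ⟶ Y}
    {g : Y₁ ⟶ Y} (hc₁ : IsPullback a b f g) {a' : X₂ ⟶ X} {b' : X₂ ⟶ Y₂} {h : Y₂ ⟶ Y₁}
    (hc₂ : IsPullback a' b' f (h ≫ g)) (F : X.Modules) [Coh.IsQCoh F] (x₂ : X₂)
    (H : ∀ x₁ : X₁, a x₁ = a' x₂ → b x₁ = h (b' x₂) →
      FlatMod.IsFlatOverAt b ((Scheme.Modules.pullback a).obj F) x₁) :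
    FlatMod.IsFlatOverAt b' ((Scheme.Modules.pullback a').obj F) x₂ := by
  let c : X₂ ⟶ X₁ := hc₁.lift a' (b' ≫ h) (by rw [Category.assoc, hc₂.w])
  have hca : c ≫ a = a' := hc₁.lift_fst _ _ _
  have hcb : c ≫ b = b' ≫ h := hc₁.lift_snd _ _ _
  have sq : IsPullback c b' b h := IsPullback.of_right (by rw [hca]; exact hc₂) hcb hc₁
  haveI := isQCoh_pullback a F
  have h1 := isFlatOverAt_baseChange sq ((Scheme.Modules.pullback a).obj F) x₂
    (H (c x₂) (by rw [← Scheme.Hom.comp_apply, hca])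
      (by rw [← Scheme.Hom.comp_apply, hcb, Scheme.Hom.comp_apply]))
  exact isFlatOverAt_of_iso (((Scheme.Modules.pullbackComp c a).app F) ≪≫
    eqToIso (by rw [hca])) b' x₂ h1

/-- Flatness at a point tested on a family of local base changes inducing the adic topology. -/
theorem isFlatOverAt_of_family_stalk [IsLocallyNoetherian Y] (f : X ⟶ Y) [LocallyOfFiniteType f]
    (F : X.Modules) (hF : Coh.IsCoh F) (x : X)
    {ι : Type u} (A : ι → Type u) [∀ i, CommRing (A i)] [∀ i, IsLocalRing (A i)]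
    (φ : ∀ i, (Y.presheaf.stalk (f x) : Type u) →+* A i) [∀ i, IsLocalHom (φ i)]
    (htop : ∀ N : ℕ, ∃ s : Finset (ι × ℕ),
      ⨅ p ∈ s, Ideal.comap (φ p.1) (maximalIdeal (A p.1) ^ p.2) ≤
        maximalIdeal ↑(Y.presheaf.stalk (f x)) ^ N)
    (H : ∀ (i : ι) (x' : ↥(pullback f (Spec.map (CommRingCat.ofHom (φ i)) ≫ Y.fromSpecStalk (f x)))),
      pullback.fst f (Spec.map (CommRingCat.ofHom (φ i)) ≫ Y.fromSpecStalk (f x)) x' = x →
      pullback.snd f (Spec.map (CommRingCat.ofHom (φ i)) ≫ Y.fromSpecStalk (f x)) x' =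
        IsLocalRing.closedPoint (A i) →
      FlatMod.IsFlatOverAt (pullback.snd f (Spec.map (CommRingCat.ofHom (φ i)) ≫ Y.fromSpecStalk (f x)))
        ((Scheme.Modules.pullback
          (pullback.fst f (Spec.map (CommRingCat.ofHom (φ i)) ≫ Y.fromSpecStalk (f x)))).obj F) x') :
    FlatMod.IsFlatOverAt f F x := by
  haveI : Coh.IsQCoh F := hF.1
  let g₀ := Y.fromSpecStalk (f x)
  haveI : Flat g₀ := IntImage.flat_fromSpecStalk (f x)
  obtain ⟨x₀, hx₀, hy₀⟩ := Scheme.Pullback.exists_preimage_pullback (f := f) (g := g₀) x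
    (IsLocalRing.closedPoint (Y.presheaf.stalk (f x))) Scheme.fromSpecStalk_closedPoint.symm
  have hc := IsPullback.of_hasPullback f g₀
  suffices hflat : FlatMod.IsFlatOverAt (pullback.snd f g₀)
      ((Scheme.Modules.pullback (pullback.fst f g₀)).obj F) x₀ by
    have := isFlatOverAt_of_baseChange hc F x₀ (Flat.stalkMap g₀ _) hflat
    rwa [hx₀] at this
  haveI : LocallyOfFiniteType (pullback.snd f g₀) := inferInstance
  haveI : IsNoetherianRing (Y.presheaf.stalk (f x)) := inferInstance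
  refine isFlatOverAt_of_family_adic (A := (Y.presheaf.stalk (f x) : Type u))
    (pullback.snd f g₀) _ (isCoh_pullback (pullback.fst f g₀) F hF) x₀ A φ (fun i x' h1 h2 => ?_)
    hy₀ htop
  let b₂ := Spec.map (CommRingCat.ofHom (φ i))
  have hcomp := (IsPullback.of_hasPullback (pullback.snd f g₀) b₂).paste_horiz hc
  have hflat := isFlatOverAt_iterate (h := 𝟙 _)
    (IsPullback.of_hasPullback f (b₂ ≫ g₀))
    (a' := pullback.fst (pullback.snd f g₀) b₂ ≫ pullback.fst f g₀)
    (b' := pullback.snd (pullback.snd f g₀) b₂) (by rw [Category.id_comp]; exact hcomp) F x'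
    fun x₁ e1 e2 => H i x₁ (e1.trans (by rw [Scheme.Hom.comp_apply, h1, hx₀]))
      (e2.trans (by simpa using h2))
  exact isFlatOverAt_of_iso ((Scheme.Modules.pullbackComp _ _).app F).symm _ x' hflat

/-- Flatness over a base with nilpotent maximal ideal tested on a separating family of schemes. -/
theorem isFlatOverAt_of_scheme_family {A : Type u} [CommRing A] [IsLocalRing A]
    [IsNoetherianRing A] (hnil : IsNilpotent (maximalIdeal A))
    (f : X ⟶ Spec (CommRingCat.of A)) [LocallyOfFiniteType f] (F : X.Modules) (hF : Coh.IsCoh F)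
    (x : X) {ι : Type u} (Y : ι → Scheme.{u}) (g : ∀ i, Y i ⟶ Spec (CommRingCat.of A))
    (hg : ∀ a : A, (∀ i, (g i).appTop ((Scheme.ΓSpecIso (CommRingCat.of A)).inv a) = 0) → a = 0)
    (hflat : ∀ (i : ι) (x' : ↥(pullback f (g i))), pullback.fst f (g i) x' = x →
      FlatMod.IsFlatOverAt (pullback.snd f (g i))
        ((Scheme.Modules.pullback (pullback.fst f (g i))).obj F) x') :
    FlatMod.IsFlatOverAt f F x := by
  haveI : Coh.IsQCoh F := hF.1
  let C : (Σ i, (Y i : Type u)) → Type u := fun j => ((Y j.1).presheaf.stalk j.2 : Type u)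
  let φ : ∀ j : Σ i, (Y i : Type u), CommRingCat.of A ⟶ (Y j.1).presheaf.stalk j.2 := fun j =>
    Spec.preimage ((Y j.1).fromSpecStalk j.2 ≫ g j.1)
  refine isFlatOverAt_of_family f F hF x C (fun j => (φ j).hom) (fun j x' h1 _ => ?_) hnil
    fun a ha => hg a fun i => ?_
  · refine isFlatOverAt_iterate (h := (Y j.1).fromSpecStalk j.2)
      (IsPullback.of_hasPullback f (g j.1)) ?_ F x' fun x₁ e1 _ => hflat j.1 x₁ (e1.trans h1)
    have : Spec.map (CommRingCat.ofHom (φ j).hom) = (Y j.1).fromSpecStalk j.2 ≫ g j.1 := by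
      simp only [CommRingCat.ofHom_hom, φ, Spec.map_preimage]
    rw [← this]
    exact IsPullback.of_hasPullback f _
  · refine TopCat.Presheaf.section_ext (Y i).sheaf _ _ 0 fun y hy => ?_
    show (Y i).presheaf.germ ⊤ y trivial _ = (Y i).presheaf.germ ⊤ y trivial 0
    rw [map_zero]
    have h := congrArg (fun m => m.appTop ((Scheme.ΓSpecIso (CommRingCat.of A)).inv a))
      (Spec.map_preimage ((Y i).fromSpecStalk y ≫ g i))
    simp only [Scheme.Hom.comp_appTop, CommRingCat.comp_apply, Scheme.fromSpecStalk_appTop] at h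
    rw [← CommRingCat.comp_apply, ← Scheme.ΓSpecIso_inv_naturality, CommRingCat.comp_apply,
      show (φ ⟨i, y⟩) a = 0 from ha ⟨i, y⟩, map_zero] at h
    exact ((map_eq_zero_iff _
      (ConcreteCategory.bijective_of_isIso
        (Scheme.ΓSpecIso ((Y i).presheaf.stalk y)).inv).injective).1 h.symm)

end Groth.Agent.FlatFam
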