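import Mathlib
import Groth.Agent.FlatFam.Transfer

/-!
Flatness at a point tested at the closed points of a finite extension of the local ring of the base.
-/

set_option autoImplicit false
set_option linter.style.haveILetI false
set_option backward.isDefEq.respectTransparency false

universe u

open CategoryTheory CategoryTheory.Limits AlgebraicGeometry TopologicalSpace Opposite
open IsLocalRing Groth.Agent.CohBase Groth.Agent.QCohLib Groth.Agent.PullbackMod

namespace Groth.Agent.FlatFam

/-- The closed points of a finite injective extension induce the adic topology. -/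
theorem exists_finset_iInf_comap_le {A B : Type u} [CommRing A] [CommRing B] [Algebra A B]
    [IsLocalRing A] [IsNoetherianRing A] [Module.Finite A B]
    (hinj : Function.Injective (algebraMap A B)) (j : ℕ) :
    ∃ s : Finset (MaximalSpectrum B × ℕ), ⨅ p ∈ s,
      Ideal.comap ((algebraMap B (Localization.AtPrime p.1.asIdeal)).comp (algebraMap A B))
        (maximalIdeal (Localization.AtPrime p.1.asIdeal) ^ p.2) ≤ maximalIdeal A ^ j := by
  classical
  haveI : IsNoetherianRing B := IsNoetherianRing.of_finite A B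
  haveI : Algebra.IsIntegral A B := Algebra.IsIntegral.of_finite A B
  let I := (maximalIdeal A).map (algebraMap A B)
  have hover : ∀ n : MaximalSpectrum B, I ≤ n.asIdeal := fun n => Ideal.map_le_iff_le_comap.2
    (IsLocalRing.eq_maximalIdeal (Ideal.isMaximal_comap_of_isIntegral_of_isMaximal n.asIdeal)).ge
  haveI : Finite (MaximalSpectrum B) := by
    letI := Ideal.Quotient.field (maximalIdeal A)
    haveI : Module.Finite (A ⧸ maximalIdeal A) (B ⧸ I) :=
      Module.Finite.of_restrictScalars_finite A _ _
    haveI : IsArtinianRing (B ⧸ I) := IsArtinianRing.of_finite (A ⧸ maximalIdeal A) (B ⧸ I)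
    have hfin : (I.minimalPrimes).Finite := Ideal.finite_minimalPrimes_of_isNoetherianRing B I
    haveI := hfin.to_subtype
    have hmin : ∀ n : MaximalSpectrum B, n.asIdeal ∈ I.minimalPrimes := by
      intro n
      refine ⟨⟨n.isMaximal.isPrime, hover n⟩, fun Q hQ hQn => ?_⟩
      haveI := hQ.1
      have hQmax : Q.IsMaximal :=
        Ideal.isMaximal_of_isIntegral_of_isMaximal_comap Q (by
          have h1 : maximalIdeal A ≤ Q.comap (algebraMap A B) := Ideal.map_le_iff_le_comap.1 hQ.2
          rw [← (IsLocalRing.maximalIdeal.isMaximal A).eq_of_le (Ideal.IsPrime.ne_top inferInstance) h1]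
          infer_instance)
      exact (hQmax.eq_of_le n.isMaximal.ne_top hQn).ge
    exact Finite.of_injective (fun n : MaximalSpectrum B => (⟨n.asIdeal, hmin n⟩ : I.minimalPrimes))
      fun a b h => MaximalSpectrum.ext (congrArg Subtype.val h)
  haveI := Fintype.ofFinite (MaximalSpectrum B)
  obtain ⟨k, hk⟩ := Ideal.exists_pow_inf_eq_pow_smul (maximalIdeal A)
    (LinearMap.range (Algebra.linearMap A B))
  have hexp : ∀ n : MaximalSpectrum B, ∃ e : ℕ, maximalIdeal (Localization.AtPrime n.asIdeal) ^ e ≤
      (I ^ (j + k)).map (algebraMap B (Localization.AtPrime n.asIdeal)) := by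
    intro n
    refine Ideal.exists_pow_le_of_le_radical_of_fg ?_ (IsNoetherian.noetherian _)
    rw [Ideal.radical_eq_sInf]
    refine le_sInf fun Q hQ => ?_
    haveI := hQ.2
    have h1 : I ^ (j + k) ≤ Q.comap (algebraMap B _) := Ideal.map_le_iff_le_comap.1 hQ.1
    haveI : (Q.comap (algebraMap B (Localization.AtPrime n.asIdeal))).IsPrime :=
      Ideal.comap_isPrime _ _
    have h2 : I ≤ Q.comap (algebraMap B _) := fun b hb =>
      Ideal.IsPrime.mem_of_pow_mem inferInstance _ (h1 (Ideal.pow_mem_pow hb _))
    have h3 : (Q.comap (algebraMap B (Localization.AtPrime n.asIdeal))).IsMaximal :=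
      Ideal.isMaximal_of_isIntegral_of_isMaximal_comap _ (by
        rw [← (IsLocalRing.maximalIdeal.isMaximal A).eq_of_le (Ideal.IsPrime.ne_top inferInstance)
          (Ideal.map_le_iff_le_comap.1 h2)]
        infer_instance)
    have h4 : Q.comap (algebraMap B (Localization.AtPrime n.asIdeal)) = n.asIdeal := by
      exact h3.eq_of_le n.isMaximal.ne_top (le_of_le_of_eq
        (Ideal.comap_mono (IsLocalRing.le_maximalIdeal (Ideal.IsPrime.ne_top inferInstance)))
        Localization.AtPrime.comap_maximalIdeal)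
    rw [← IsLocalization.AtPrime.map_eq_maximalIdeal n.asIdeal, Ideal.map_le_iff_le_comap, h4]
  choose e he using hexp
  refine ⟨Finset.univ.image fun n => (n, e n), fun a ha => ?_⟩
  simp only [Submodule.mem_iInf, Ideal.mem_comap] at ha
  have hmem : algebraMap A B a ∈ I ^ (j + k) := by
    refine Ideal.mem_of_localization_maximal (fun P hP => ?_)
    exact he ⟨P, hP⟩ (ha (⟨P, hP⟩, e ⟨P, hP⟩) (Finset.mem_image.2 ⟨_, Finset.mem_univ _, rfl⟩))
  have h5 : algebraMap A B a ∈ (maximalIdeal A ^ (j + k) • ⊤ ⊓
      LinearMap.range (Algebra.linearMap A B) : Submodule A B) :=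
    ⟨by rw [Ideal.smul_top_eq_map, Ideal.map_pow]; exact hmem, ⟨a, rfl⟩⟩
  rw [hk (j + k) (Nat.le_add_left _ _), Nat.add_sub_cancel] at h5
  have h6 : Algebra.linearMap A B a ∈
      Submodule.map (Algebra.linearMap A B) (maximalIdeal A ^ j • ⊤) := by
    rw [Submodule.map_smul'', Submodule.map_top]
    exact Submodule.smul_mono le_rfl inf_le_right h5
  obtain ⟨b, hb, hba⟩ := h6
  rw [show b = a from hinj hba] at hb
  simpa [Ideal.mul_top] using hb

variable {X Y : Scheme.{u}}

/-- Flatness at a point is tested at the closed points of a finite extension of the local ring. -/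
theorem isFlatOverAt_iff_finite_extension [IsLocallyNoetherian Y] (f : X ⟶ Y)
    [LocallyOfFiniteType f] (F : X.Modules) (hF : Coh.IsCoh F) (x : X) (A' : CommRingCat.{u})
    (φ : Y.presheaf.stalk (f x) ⟶ A') (hfin : φ.hom.Finite) (hinj : Function.Injective φ.hom) :
    FlatMod.IsFlatOverAt f F x ↔
      ∀ x' : ↥(pullback f (Spec.map φ ≫ Y.fromSpecStalk (f x))),
        pullback.fst f (Spec.map φ ≫ Y.fromSpecStalk (f x)) x' = x →
        IsClosed ({pullback.snd f (Spec.map φ ≫ Y.fromSpecStalk (f x)) x'} : Set ↥(Spec A')) →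
          FlatMod.IsFlatOverAt (pullback.snd f (Spec.map φ ≫ Y.fromSpecStalk (f x)))
            ((Scheme.Modules.pullback (pullback.fst f (Spec.map φ ≫ Y.fromSpecStalk (f x)))).obj F) x' := by
  haveI : Coh.IsQCoh F := hF.1
  refine ⟨fun h x' h1 _ => isFlatOverAt_baseChange (IsPullback.of_hasPullback _ _) F x'
    (by rw [h1]; exact h), fun H => ?_⟩
  let O := (Y.presheaf.stalk (f x) : Type u)
  letI : Algebra O A' := φ.hom.toAlgebra
  haveI : Module.Finite O A' := hfin
  haveI : Algebra.IsIntegral O A' := Algebra.IsIntegral.of_finite O A'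
  let L : MaximalSpectrum A' → Type u := fun n => Localization.AtPrime n.asIdeal
  let ψ : ∀ n, O →+* L n := fun n => (algebraMap A' (L n)).comp φ.hom
  haveI : ∀ n, IsLocalHom (ψ n) := fun n => ⟨fun a ha => by
    by_contra hna
    have h1 : φ.hom a ∈ n.asIdeal :=
      (IsLocalRing.eq_maximalIdeal (Ideal.isMaximal_comap_of_isIntegral_of_isMaximal (R := O)
        n.asIdeal)).ge ((mem_maximalIdeal _).2 hna)
    exact (mem_maximalIdeal _).1
      ((IsLocalization.AtPrime.to_map_mem_maximal_iff (L n) n.asIdeal _).2 h1) ha⟩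
  refine isFlatOverAt_of_family_stalk f F hF x L ψ
    (fun j => exists_finset_iInf_comap_le (A := O) hinj j) fun n x' h1 h2 => ?_
  let h := Spec.map (CommRingCat.ofHom (algebraMap A' (L n)))
  have hmap : Spec.map (CommRingCat.ofHom (ψ n)) ≫ Y.fromSpecStalk (f x) =
      h ≫ Spec.map φ ≫ Y.fromSpecStalk (f x) := by
    rw [← Category.assoc, ← Spec.map_comp]
    rfl
  refine isFlatOverAt_iterate (IsPullback.of_hasPullback f (Spec.map φ ≫ Y.fromSpecStalk (f x)))
    (h := h) (by rw [← hmap]; exact IsPullback.of_hasPullback _ _) F x' fun x₁ e1 e2 => ?_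
  refine H x₁ (e1.trans h1) ?_
  have heq : (pullback.snd f (Spec.map φ ≫ Y.fromSpecStalk (f x)) x₁ : ↥(Spec A')) =
      (⟨n.asIdeal, n.isMaximal.isPrime⟩ : PrimeSpectrum A') :=
    (e2.trans (congrArg h h2)).trans (PrimeSpectrum.ext Localization.AtPrime.comap_maximalIdeal)
  rw [heq]
  exact (PrimeSpectrum.isClosed_singleton_iff_isMaximal _).2 n.isMaximal

end Groth.Agent.FlatFam
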