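import Mathlib
import Groth.Agent.FlatFam.Key
import Groth.Agent.FlatFam.PrimaryTensor

/-!
Relations in a base change which is flat at one point over a point with primary residue extension.
-/

set_option autoImplicit false
set_option linter.style.haveILetI false
set_option backward.isDefEq.respectTransparency false

universe u

open TensorProduct IsLocalRing

namespace Groth.Agent.FlatFam

attribute [local instance] Algebra.TensorProduct.rightAlgebra

variable {A R B : Type u} [CommRing A] [CommRing R] [Algebra A R] [CommRing B]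
  [Algebra A B] (X : Type u) [AddCommGroup X] [Module B X] [Module A X] [IsScalarTower A B X]

section Act

variable (V : Type u) [AddCommGroup V] [Module R V] [Module A V] [IsScalarTower A R V]

/-- The action of the coefficients. -/
noncomputable def actB : B →ₗ[A] Module.End R (V ⊗[A] X) where
  toFun b := coefMul (R := R) X b
  map_add' b c := by
    refine AlgebraTensorModule.ext fun v x => ?_
    simp [coefMul, add_smul, TensorProduct.tmul_add]
  map_smul' a b := by
    refine AlgebraTensorModule.ext fun v x => ?_
    simp [coefMul, smul_assoc, TensorProduct.tmul_smul]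

/-- The action of the tensor ring on a tensor product of modules. -/
noncomputable def act : R ⊗[A] B →ₗ[R] Module.End R (V ⊗[A] X) :=
  AlgebraTensorModule.lift (LinearMap.toSpanSingleton R _ (actB X V))

theorem act_tmul (r : R) (b : B) (v : V) (x : X) :
    act X V (r ⊗ₜ[A] b) (v ⊗ₜ[A] x) = (r • v) ⊗ₜ[A] (b • x) := by
  simp [act, actB, coefMul, TensorProduct.smul_tmul']

variable {V} {V' : Type u} [AddCommGroup V'] [Module R V'] [Module A V'] [IsScalarTower A R V']

theorem act_natural (g : V →ₗ[R] V') (h : R ⊗[A] B) (v : V ⊗[A] X) :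
    AlgebraTensorModule.rTensor A X g (act X V h v) =
      act X V' h (AlgebraTensorModule.rTensor A X g v) := by
  induction h using TensorProduct.induction_on with
  | zero => simp
  | tmul r b =>
    induction v using TensorProduct.induction_on with
    | zero => simp
    | tmul w x => simp [act_tmul]
    | add p q hp hq => simp only [map_add, hp, hq]
  | add p q hp hq => simp only [map_add, LinearMap.add_apply, hp, hq]

theorem psi_eq_act {K : Type u} [Fintype K] (m : K → V) (β : K → X) (h : R ⊗[A] B) :
    psi m β h = act X V h (∑ k, m k ⊗ₜ[A] β k) := by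
  induction h using TensorProduct.induction_on with
  | zero => simp
  | tmul r b =>
    have : (r ⊗ₜ[A] b : R ⊗[A] B) = (r ⊗ₜ[A] 1) * (((1 : R) ⊗ₜ[A] b) * 1) := by simp
    conv_lhs => rw [this, psi_scalar_mul, psi_coef_mul, Algebra.TensorProduct.one_def,
      psi_tmul_one]
    rw [map_sum, map_sum, Finset.smul_sum]
    refine Finset.sum_congr rfl fun k _ => ?_
    simp [act_tmul, coefMul, TensorProduct.smul_tmul']
  | add p q hp hq => rw [map_add, map_add, LinearMap.add_apply, hp, hq]

end Act

variable (q : Ideal R) [q.IsPrime] (h : R ⊗[A] B)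

/-- Elements killed by the action are killed outside the prime. -/
def Good (V : Type u) [AddCommGroup V] [Module R V] [Module A V] [IsScalarTower A R V] : Prop :=
  ∀ v : V ⊗[A] X, act X V h v = 0 → ∃ t ∉ q, t • v = 0

variable {X q h}

variable [IsLocalRing A]

/-- Extensions of modules killed by the maximal ideal of the base. -/
theorem Good.of_exact {V₁ V₂ V₃ : Type u} [AddCommGroup V₁] [Module R V₁] [Module A V₁]
    [IsScalarTower A R V₁] [AddCommGroup V₂] [Module R V₂] [Module A V₂] [IsScalarTower A R V₂]
    [AddCommGroup V₃] [Module R V₃] [Module A V₃] [IsScalarTower A R V₃] (f : V₁ →ₗ[R] V₂)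
    (g : V₂ →ₗ[R] V₃) (hf : Function.Injective f) (hfg : Function.Exact f g)
    (hg : Function.Surjective g) (hV : ∀ a ∈ maximalIdeal A, ∀ v : V₂, a • v = 0)
    (h₁ : Good X q h V₁) (h₃ : Good X q h V₃) : Good X q h V₂ := by
  have hsplit : Function.Injective (AlgebraTensorModule.rTensor A X f) := by
    have hV₁ : Module.IsTorsionBySet A V₁ (maximalIdeal A : Set A) := fun v a =>
      hf (by rw [LinearMap.map_smul_of_tower, hV a a.2, map_zero])
    have hV₂ : Module.IsTorsionBySet A V₂ (maximalIdeal A : Set A) := fun v a => hV a a.2 v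
    letI := Ideal.Quotient.field (maximalIdeal A)
    letI : Module (A ⧸ maximalIdeal A) V₁ := hV₁.module
    letI : Module (A ⧸ maximalIdeal A) V₂ := hV₂.module
    haveI : IsScalarTower A (A ⧸ maximalIdeal A) V₁ := hV₁.isScalarTower
    haveI : IsScalarTower A (A ⧸ maximalIdeal A) V₂ := hV₂.isScalarTower
    let f' : V₁ →ₗ[A ⧸ maximalIdeal A] V₂ :=
      (f.restrictScalars A).extendScalarsOfSurjective Ideal.Quotient.mk_surjective
    obtain ⟨p, hp⟩ := f'.exists_leftInverse_of_injective (LinearMap.ker_eq_bot.2 hf)
    intro x y hxy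
    have key : ∀ z : V₁ ⊗[A] X,
        (p.restrictScalars A).rTensor X (AlgebraTensorModule.rTensor A X f z) = z := by
      intro z
      induction z using TensorProduct.induction_on with
      | zero => simp
      | tmul v w =>
        have : p (f v) = v := LinearMap.congr_fun hp v
        simp [this]
      | add a b ha hb => simp only [map_add, ha, hb]
    rw [← key x, hxy, key]
  intro v hv
  obtain ⟨t, ht, htv⟩ := h₃ (AlgebraTensorModule.rTensor A X g v) (by
    rw [← act_natural, hv, map_zero])
  have hex : Function.Exact (AlgebraTensorModule.rTensor A X f) (AlgebraTensorModule.rTensor A X g) :=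
    rTensor_exact (M := V₁) (f := f.restrictScalars A) (g := g.restrictScalars A) X hfg hg
  obtain ⟨w, hw⟩ := (hex (t • v)).1 (by rw [map_smul, htv])
  obtain ⟨t', ht', htw⟩ := h₁ w (hsplit (by rw [act_natural, hw, map_smul, hv, smul_zero, map_zero]))
  refine ⟨t' * t, Ideal.IsPrime.mul_notMem inferInstance ht' ht, ?_⟩
  rw [mul_smul, ← hw, ← map_smul, htw, map_zero]

variable [IsLocalRing B] [IsLocalHom (algebraMap A B)]

omit [IsLocalHom (algebraMap A B)] in
/-- Modules killed by the prime, when the image of the element is regular in the tensor product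
of the residue fields. -/
theorem good_of_killed (hX : ∀ c ∈ maximalIdeal B, ∀ x : X, c • x = 0)
    (hreg : ∀ w : q.ResidueField ⊗[A] ResidueField B,
      Algebra.TensorProduct.map (IsScalarTower.toAlgHom A R q.ResidueField)
        (IsScalarTower.toAlgHom A B (ResidueField B)) h * w = 0 → w = 0)
    (V : Type u) [AddCommGroup V] [Module R V] [Module A V] [IsScalarTower A R V]
    (hV : ∀ r ∈ q, ∀ v : V, r • v = 0) : Good X q h V := by
  classical
  intro v hv
  let W := LocalizedModule q.primeCompl V
  let Rq := Localization.AtPrime q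
  let l := LocalizedModule.mkLinearMap q.primeCompl V
  have hW : Module.IsTorsionBySet Rq W (maximalIdeal Rq : Set Rq) := by
    have hle : maximalIdeal Rq ≤ Module.annihilator Rq W := by
      rw [← IsLocalization.AtPrime.map_eq_maximalIdeal q Rq, Ideal.map_le_iff_le_comap]
      intro r hr
      rw [Ideal.mem_comap, Module.mem_annihilator]
      intro w
      induction w using LocalizedModule.induction_on with
      | h m s => rw [algebraMap_smul, LocalizedModule.smul'_mk, hV r hr, LocalizedModule.zero_mk]
    exact fun w a => Module.mem_annihilator.1 (hle a.2) w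
  let κ := q.ResidueField
  letI : Module κ W := hW.module
  haveI : IsScalarTower Rq κ W := hW.isScalarTower
  haveI : IsScalarTower R κ W := .of_algebraMap_smul fun r w => by
    rw [IsScalarTower.algebraMap_apply R Rq κ, algebraMap_smul, algebraMap_smul]
  haveI : IsScalarTower A κ W := .of_algebraMap_smul fun a w => by
    rw [IsScalarTower.algebraMap_apply A R κ, algebraMap_smul, algebraMap_smul]
  let L := ResidueField B
  have hX' : Module.IsTorsionBySet B X (maximalIdeal B : Set B) := fun x c => hX c c.2 x
  letI : Module L X := hX'.module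
  haveI : IsScalarTower B L X := hX'.isScalarTower
  haveI : IsScalarTower A L X := .of_algebraMap_smul fun a x => by
    rw [IsScalarTower.algebraMap_apply A B L, algebraMap_smul, algebraMap_smul]
  let e := Module.Free.chooseBasis κ W
  let f := Module.Free.chooseBasis L X
  let Φ := (TensorProduct.congr (e.repr.restrictScalars A) (f.repr.restrictScalars A)).trans
    (finsuppTensorFinsupp A A κ L _ _)
  let π := Algebra.TensorProduct.map (IsScalarTower.toAlgHom A R κ)
    (IsScalarTower.toAlgHom A B L)
  have hΦ : ∀ (z : R ⊗[A] B) (y : W ⊗[A] X) p, Φ (act X W z y) p = π z * Φ y p := by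
    intro z y p
    induction z using TensorProduct.induction_on with
    | zero => simp
    | tmul r b =>
      induction y using TensorProduct.induction_on with
      | zero => simp
      | tmul w x =>
        obtain ⟨i, j⟩ := p
        simp only [Φ, LinearEquiv.trans_apply, act_tmul, TensorProduct.congr_tmul,
          finsuppTensorFinsupp_apply, LinearEquiv.restrictScalars_apply, π,
          Algebra.TensorProduct.map_tmul, IsScalarTower.coe_toAlgHom',
          Algebra.TensorProduct.tmul_mul_tmul]
        rw [← algebraMap_smul κ r w, ← algebraMap_smul L b x, map_smul, map_smul]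
        rfl
      | add a b ha hb => simp only [map_add, Finsupp.add_apply, mul_add, ha, hb]
    | add a b ha hb => simp only [map_add, LinearMap.add_apply, Finsupp.add_apply, add_mul, ha, hb]
  have h0 : AlgebraTensorModule.rTensor A X l v = 0 := by
    refine Φ.injective (Finsupp.ext fun p => ?_)
    rw [map_zero, Finsupp.zero_apply]
    refine hreg _ ?_
    rw [← hΦ, ← act_natural, hv, map_zero, map_zero, Finsupp.zero_apply]
  obtain ⟨s, hs⟩ := (IsLocalizedModule.eq_zero_iff q.primeCompl
    (AlgebraTensorModule.rTensor A X l)).1 h0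
  exact ⟨s, s.2, hs⟩

omit [IsLocalHom (algebraMap A B)] in
/-- Modules killed by a power of the prime and the closed point. -/
theorem good_of_pow (hq : (maximalIdeal A).map (algebraMap A R) ≤ q)
    (hkilled : ∀ (V : Type u) [AddCommGroup V] [Module R V] [Module A V] [IsScalarTower A R V],
      (∀ r ∈ q, ∀ v : V, r • v = 0) → Good X q h V) :
    ∀ (n : ℕ) (V : Type u) [AddCommGroup V] [Module R V] [Module A V] [IsScalarTower A R V],
      (∀ r ∈ q ^ n, ∀ v : V, r • v = 0) → (∀ a ∈ maximalIdeal A, ∀ v : V, a • v = 0) →
      Good X q h V := by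
  intro n
  induction n with
  | zero =>
    intro V _ _ _ _ hV _
    exact hkilled V fun r _ v => hV r (by simp) v
  | succ n ih =>
    intro V _ _ _ _ hV hVA
    let V₁ : Submodule R V := q • ⊤
    refine Good.of_exact V₁.subtype V₁.mkQ Subtype.val_injective (LinearMap.exact_subtype_mkQ V₁)
      (Submodule.mkQ_surjective V₁) hVA (ih V₁ (fun r hr v => ?_) fun a ha v => ?_)
      (hkilled _ fun r hr v => ?_)
    · refine Subtype.ext ?_
      show r • (v : V) = 0
      refine Submodule.smul_induction_on (p := fun w => r • w = 0) v.2 (fun c hc w _ => ?_)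
        fun w w' hw hw' => by rw [smul_add, hw, hw', add_zero]
      rw [← mul_smul]
      exact hV _ (by rw [pow_succ]; exact Ideal.mul_mem_mul hr hc) w
    · exact Subtype.ext (hVA a ha v)
    · obtain ⟨v, rfl⟩ := Submodule.mkQ_surjective V₁ v
      rw [Submodule.mkQ_apply, ← Submodule.Quotient.mk_smul, Submodule.Quotient.mk_eq_zero]
      exact Submodule.smul_mem_smul hr Submodule.mem_top

variable {M : Type u} [AddCommGroup M] [Module R M] [Module A M] [IsScalarTower A R M]
  {K : Type u} [Fintype K] {m : K → M}
  [Algebra (ResidueField A) q.ResidueField] [IsScalarTower A (ResidueField A) q.ResidueField]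

/-- The image of an element outside a prime over the points is regular. -/
theorem regular_of_notMem (hk : separableClosure (ResidueField A) q.ResidueField = ⊥)
    (P : Ideal (R ⊗[A] B)) [P.IsPrime] (hPq : P.comap (algebraMap R (R ⊗[A] B)) = q)
    (hPB : P.comap (algebraMap B (R ⊗[A] B)) = maximalIdeal B) (hh : h ∉ P) :
    ∀ w : q.ResidueField ⊗[A] ResidueField B,
      Algebra.TensorProduct.map (IsScalarTower.toAlgHom A R q.ResidueField)
        (IsScalarTower.toAlgHom A B (ResidueField B)) h * w = 0 → w = 0 := by
  intro w hw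
  let κ := q.ResidueField
  let L := ResidueField B
  let k := ResidueField A
  let π := Algebra.TensorProduct.map (IsScalarTower.toAlgHom A R κ)
    (IsScalarTower.toAlgHom A B L)
  haveI : CompatibleSMul A k κ L := ⟨fun c a b => by
    obtain ⟨c, rfl⟩ := IsLocalRing.residue_surjective c
    rw [← IsLocalRing.ResidueField.algebraMap_eq, algebraMap_smul, algebraMap_smul,
      TensorProduct.smul_tmul]⟩
  let ε : κ ⊗[A] L ≃ₐ[A] κ ⊗[k] L :=
    (Algebra.TensorProduct.equivOfCompatibleSMul A k A κ L).symm
  by_contra hne
  obtain ⟨r, hr⟩ := isNilpotent_of_mul_eq_zero hk (z := ε (π h)) (w := ε w)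
    (by rw [← map_mul, hw, map_zero]) (fun h0 => hne (ε.injective (by rw [h0, map_zero])))
  have hr' : π h ^ r = 0 := ε.injective (by rw [map_pow, hr, map_zero])
  let f₁ : κ →ₐ[A] P.ResidueField :=
    Ideal.ResidueField.mapₐ q P (Algebra.TensorProduct.includeLeft : R →ₐ[A] R ⊗[A] B) hPq.symm
  have hgB : ∀ c ∈ maximalIdeal B,
      algebraMap (R ⊗[A] B) P.ResidueField (Algebra.TensorProduct.includeRight c) = 0 := by
    intro c hc
    rw [Ideal.algebraMap_residueField_eq_zero]
    rw [← hPB] at hc
    exact hc
  let f₂ : L →ₐ[A] P.ResidueField := Ideal.Quotient.liftₐ (maximalIdeal B)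
    ((IsScalarTower.toAlgHom A (R ⊗[A] B) P.ResidueField).comp Algebra.TensorProduct.includeRight)
    hgB
  let ψ : κ ⊗[A] L →ₐ[A] P.ResidueField :=
    Algebra.TensorProduct.lift f₁ f₂ fun _ _ => Commute.all _ _
  have hψ : ∀ z : R ⊗[A] B, ψ (π z) = algebraMap (R ⊗[A] B) P.ResidueField z := by
    intro z
    induction z using TensorProduct.induction_on with
    | zero => simp
    | tmul x y =>
      simp only [ψ, π, Algebra.TensorProduct.map_tmul, IsScalarTower.coe_toAlgHom',
        Algebra.TensorProduct.lift_tmul]
      rw [show f₁ (algebraMap R κ x) = algebraMap (R ⊗[A] B) P.ResidueField (x ⊗ₜ 1) from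
          Ideal.ResidueField.map_algebraMap _ _ _ _ _,
        show f₂ (algebraMap B L y) = algebraMap (R ⊗[A] B) P.ResidueField (1 ⊗ₜ y) from rfl,
        ← map_mul, Algebra.TensorProduct.tmul_mul_tmul, mul_one, one_mul]
    | add a b ha hb => simp only [map_add, ha, hb]
  have := congrArg ψ hr'
  rw [map_pow, hψ, map_zero, ← map_pow, Ideal.algebraMap_residueField_eq_zero] at this
  exact hh (Ideal.IsPrime.mem_of_pow_mem inferInstance r this)

/-- With primary residue extension one flat point is enough. -/
theorem mem_of_relation_primary (hk : separableClosure (ResidueField A) q.ResidueField = ⊥)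
    (hq : (maximalIdeal A).map (algebraMap A R) ≤ q) (hind : Indep (A := A) q m) (𝔠 : Ideal B)
    (b : K → B)
    (hrel : ∑ k, ((1 : R) ⊗ₜ[A] b k) • ((1 : R ⊗[A] B) ⊗ₜ[R] m k) ∈
      𝔠 • (⊤ : Submodule B ((R ⊗[A] B) ⊗[R] M)))
    (P : Ideal (R ⊗[A] B)) [P.IsPrime] (hPq : P.comap (algebraMap R (R ⊗[A] B)) = q)
    (hPB : P.comap (algebraMap B (R ⊗[A] B)) = maximalIdeal B)
    [Module.Flat B (LocalizedModule P.primeCompl ((R ⊗[A] B) ⊗[R] M))] :
    ∀ k, b k ∈ 𝔠 := by
  refine mem_of_jets hind 𝔠 b fun X _ _ _ _ β hXm hsum n => ?_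
  obtain ⟨h, hh, hzero⟩ := exists_notMem_psi_eq_zero β 𝔠 b hsum hrel P
  refine good_of_pow hq (fun V _ _ _ _ hV =>
    good_of_killed hXm (regular_of_notMem hk P hPq hPB hh) V hV) n (Jet A M q n)
    (fun r hr v => ?_) (fun a ha v => ?_) _ ?_
  · obtain ⟨v, rfl⟩ := Submodule.mkQ_surjective _ v
    rw [Submodule.mkQ_apply, ← Submodule.Quotient.mk_smul, Submodule.Quotient.mk_eq_zero]
    exact Submodule.smul_mem_smul (Submodule.mem_sup_left hr) Submodule.mem_top
  · obtain ⟨v, rfl⟩ := Submodule.mkQ_surjective _ v
    rw [Submodule.mkQ_apply, ← Submodule.Quotient.mk_smul, Submodule.Quotient.mk_eq_zero,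
      ← algebraMap_smul R a v]
    exact Submodule.smul_mem_smul (Submodule.mem_sup_right (Ideal.mem_map_of_mem _ ha))
      Submodule.mem_top
  · have h1 := congrArg (AlgebraTensorModule.rTensor A X (jet A q n))
      ((psi_eq_act X m β h).symm.trans hzero)
    rw [act_natural, map_zero, map_sum] at h1
    exact h1

end Groth.Agent.FlatFam
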