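import Mathlib
import Groth.Agent.FlatFam.Sch
import Groth.Agent.FlatFam.Primary

/-!
Flatness tested on one point over each base change, for a primary residue extension.
-/

set_option autoImplicit false
set_option linter.style.haveILetI false
set_option backward.isDefEq.respectTransparency false

universe u

open CategoryTheory CategoryTheory.Limits AlgebraicGeometry TopologicalSpace Opposite TensorProduct
open IsLocalRing Groth.Agent.CohBase Groth.Agent.QCohLib Groth.Agent.PullbackMod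

namespace Groth.Agent.FlatFam

attribute [local instance] Algebra.TensorProduct.rightAlgebra

variable {X X' Y Y' : Scheme.{u}} {f : X ⟶ Y} {g : Y' ⟶ Y} {g' : X' ⟶ X} {f' : X' ⟶ Y'}
  (hc : IsPullback g' f' f g) (F : X.Modules) [Coh.IsQCoh F]
  {V : Y.Opens} {W : X.Opens} {V' : Y'.Opens}

include hc in
/-- Flatness at one point gives flatness at a prime of the tensor product. -/
theorem exists_flat_localized_of_point (hV : IsAffineOpen V) (hW : IsAffineOpen W)
    (hV' : IsAffineOpen V') (e : W ≤ f ⁻¹ᵁ V) (e' : V' ≤ g ⁻¹ᵁ V) (x : X) (hx : x ∈ W)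
    (y' : Y') (hy' : y' ∈ V') (x' : X') (hgx : g' x' = x) (hfx : f' x' = y')
    (hflat : FlatMod.IsFlatOverAt f' ((Scheme.Modules.pullback g').obj F) x') :
    letI : Algebra Γ(Y, V) Γ(X, W) := (f.appLE V W e).hom.toAlgebra
    letI : Algebra Γ(Y, V) Γ(Y', V') := (g.appLE V V' e').hom.toAlgebra
    ∃ (P : Ideal (Γ(X, W) ⊗[Γ(Y, V)] Γ(Y', V'))) (_ : P.IsPrime),
      P.comap (algebraMap Γ(X, W) (Γ(X, W) ⊗[Γ(Y, V)] Γ(Y', V'))) =
          (hW.primeIdealOf ⟨x, hx⟩).asIdeal ∧
      P.comap (algebraMap Γ(Y', V') (Γ(X, W) ⊗[Γ(Y, V)] Γ(Y', V'))) =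
          (hV'.primeIdealOf ⟨y', hy'⟩).asIdeal ∧
      Module.Flat Γ(Y', V') (LocalizedModule P.primeCompl
        ((Γ(X, W) ⊗[Γ(Y, V)] Γ(Y', V')) ⊗[Γ(X, W)] Γ(F, W))) := by
  letI : Algebra Γ(Y, V) Γ(X, W) := (f.appLE V W e).hom.toAlgebra
  letI : Algebra Γ(Y, V) Γ(Y', V') := (g.appLE V V' e').hom.toAlgebra
  obtain ⟨hW', hpo⟩ := isPushout_appLE hc hV hW hV' e e'
  let W' := g' ⁻¹ᵁ W ⊓ f' ⁻¹ᵁ V'
  have hx' : x' ∈ W' := ⟨show g' x' ∈ W from hgx ▸ hx, show f' x' ∈ V' from hfx ▸ hy'⟩
  letI : Algebra Γ(X, W) Γ(X', W') := (g'.appLE W W' inf_le_left).hom.toAlgebra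
  letI : Algebra Γ(Y', V') Γ(X', W') := (f'.appLE V' W' inf_le_right).hom.toAlgebra
  letI : Algebra Γ(Y, V) Γ(X', W') :=
    ((g'.appLE W W' inf_le_left).hom.comp (f.appLE V W e).hom).toAlgebra
  haveI : IsScalarTower Γ(Y, V) Γ(X, W) Γ(X', W') := .of_algebraMap_eq fun _ => rfl
  haveI : IsScalarTower Γ(Y, V) Γ(Y', V') Γ(X', W') := .of_algebraMap_eq' (by
    show ((f.appLE V W e) ≫ g'.appLE W _ inf_le_left).hom =
      ((g.appLE V V' e') ≫ f'.appLE V' _ inf_le_right).hom
    simp only [Scheme.Hom.appLE_comp_appLE, hc.w])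
  haveI := hpo.symm
  let ε : Γ(X, W) ⊗[Γ(Y, V)] Γ(Y', V') ≃ₐ[Γ(X, W)] Γ(X', W') :=
    Algebra.IsPushout.equiv Γ(Y, V) Γ(X, W) Γ(Y', V') _
  have hεC : ∀ c, ε (algebraMap Γ(Y', V') _ c) = algebraMap Γ(Y', V') Γ(X', W') c := fun c => by
    show ε ((1 : Γ(X, W)) ⊗ₜ c) = _
    rw [Algebra.IsPushout.equiv_tmul, map_one, one_mul]
  let P' : Ideal Γ(X', W') := (hW'.primeIdealOf ⟨x', hx'⟩).asIdeal
  refine ⟨P'.comap ε.toRingEquiv.toRingHom, Ideal.comap_isPrime _ _, ?_, ?_, ?_⟩
  · rw [Ideal.comap_comap, show ε.toRingEquiv.toRingHom.comp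
        (algebraMap Γ(X, W) (Γ(X, W) ⊗[Γ(Y, V)] Γ(Y', V'))) =
        (g'.appLE W W' inf_le_left).hom from RingHom.ext fun r => ε.commutes r]
    refine Eq.trans (congrArg PrimeSpectrum.asIdeal
      (IsAffineOpen.comap_primeIdealOf_appLE (f := g') W hW W' hW' inf_le_left hx')) ?_
    simp only [hgx]
  · rw [Ideal.comap_comap, show ε.toRingEquiv.toRingHom.comp
        (algebraMap Γ(Y', V') (Γ(X, W) ⊗[Γ(Y, V)] Γ(Y', V'))) =
        (f'.appLE V' W' inf_le_right).hom from RingHom.ext hεC]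
    refine Eq.trans (congrArg PrimeSpectrum.asIdeal
      (IsAffineOpen.comap_primeIdealOf_appLE (f := f') V' hV' W' hW' inf_le_right hx')) ?_
    simp only [hfx]
  · haveI := isQCoh_pullback g' F
    let M' := Γ((Scheme.Modules.pullback g').obj F, W')
    letI : Module Γ(X, W) M' := Module.compHom _ (g'.appLE W W' inf_le_left).hom
    haveI : IsScalarTower Γ(X, W) Γ(X', W') M' := .of_algebraMap_smul fun _ _ => rfl
    letI : Module Γ(Y', V') M' := Module.compHom _ (f'.appLE V' W' inf_le_right).hom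
    haveI : IsScalarTower Γ(Y', V') Γ(X', W') M' := .of_algebraMap_smul fun _ _ => rfl
    haveI : Module.Flat Γ(Y', V') (LocalizedModule P'.primeCompl M') :=
      (FlatLocus.isFlatOverAt_iff f' _ hV' hW' inf_le_right x' hx').1 hflat
    have hb := isBaseChange_pullMapL g' F hW hW' (inf_le_left (b := f' ⁻¹ᵁ V'))
    let em : (Γ(X, W) ⊗[Γ(Y, V)] Γ(Y', V')) ⊗[Γ(X, W)] Γ(F, W) ≃ₗ[Γ(X, W)] M' :=
      (TensorProduct.congr ε.toLinearEquiv (LinearEquiv.refl _ _)).trans
        (hb.equiv.restrictScalars Γ(X, W))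
    refine flat_localized_transfer (N' := M') ε.toRingEquiv hεC em.toAddEquiv (fun s m => ?_) _ P' rfl
    show em (s • m) = ε s • em m
    induction m using TensorProduct.induction_on with
    | zero => simp
    | tmul b p =>
      show hb.equiv (ε (s * b) ⊗ₜ[Γ(X, W)] p) = ε s • hb.equiv (ε b ⊗ₜ[Γ(X, W)] p)
      rw [map_mul, ← smul_eq_mul, ← TensorProduct.smul_tmul', map_smul]
    | add a b ha hb' => simp only [smul_add, map_add, ha, hb']

/-- A section lies in the prime of a point iff its value there vanishes. -/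
theorem mem_primeIdealOf_iff {X : Scheme.{u}} {U : X.Opens} (hU : IsAffineOpen U) (x : X)
    (hx : x ∈ U) (a : Γ(X, U)) :
    a ∈ (hU.primeIdealOf ⟨x, hx⟩).asIdeal ↔ X.evaluation U x hx a = 0 := by
  letI : Algebra Γ(X, U) (X.presheaf.stalk x) := (X.presheaf.germ U x hx).hom.toAlgebra
  haveI : IsLocalization.AtPrime (X.presheaf.stalk x) (hU.primeIdealOf ⟨x, hx⟩).asIdeal :=
    hU.isLocalization_stalk ⟨x, hx⟩
  rw [← Scheme.germ_residue]
  show _ ↔ IsLocalRing.residue _ (algebraMap Γ(X, U) (X.presheaf.stalk x) a) = 0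
  rw [IsLocalRing.residue_eq_zero_iff]
  exact (IsLocalization.AtPrime.to_map_mem_maximal_iff (X.presheaf.stalk x)
    (hU.primeIdealOf ⟨x, hx⟩).asIdeal a inferInstance).symm

/-- A primary residue extension of schemes is a primary extension of residue fields of primes. -/
theorem separableClosure_residueField_eq_bot {X Y : Scheme.{u}} (f : X ⟶ Y) (hV : IsAffineOpen (⊤ : Y.Opens))
    [IsLocalRing Γ(Y, ⊤)] {W : X.Opens} (hW : IsAffineOpen W) (x : X) (hxW : x ∈ W)
    (hy : (hV.primeIdealOf ⟨f x, trivial⟩).asIdeal = maximalIdeal Γ(Y, ⊤))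
    (hprim : letI := (f.residueFieldMap x).hom.toAlgebra
      ∀ a : ↑(X.residueField x), IsSeparable ↑(Y.residueField (f x)) a →
        a ∈ (f.residueFieldMap x).hom.range)
    [Algebra (IsLocalRing.ResidueField Γ(Y, ⊤)) (hW.primeIdealOf ⟨x, hxW⟩).asIdeal.ResidueField]
    (halg : ∀ a : Γ(Y, ⊤),
      algebraMap (IsLocalRing.ResidueField Γ(Y, ⊤)) (hW.primeIdealOf ⟨x, hxW⟩).asIdeal.ResidueField
        (IsLocalRing.residue _ a) =
      algebraMap Γ(X, W) (hW.primeIdealOf ⟨x, hxW⟩).asIdeal.ResidueField (f.appLE ⊤ W le_top a)) :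
    separableClosure (IsLocalRing.ResidueField Γ(Y, ⊤))
      (hW.primeIdealOf ⟨x, hxW⟩).asIdeal.ResidueField = ⊥ := by
  let A' := Γ(Y, ⊤)
  let q := (hW.primeIdealOf ⟨x, hxW⟩).asIdeal
  let kA := IsLocalRing.ResidueField A'
  let κq := q.ResidueField
  letI : Algebra A' Γ(X, W) := (f.appLE ⊤ W le_top).hom.toAlgebra
  let y := f x
  have hy' : (hV.primeIdealOf ⟨y, trivial⟩).asIdeal = maximalIdeal A' := hy
  let ρ : A' →+* Y.residueField y :=
    (Y.evaluation ⊤ y trivial).hom
  have hρ0 : ∀ a ∈ maximalIdeal A', ρ a = 0 := fun a ha =>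
    (mem_primeIdealOf_iff hV y trivial a).1 (hy'.ge ha)
  have hρs : Function.Surjective ρ := by
    intro z
    obtain ⟨t, rfl⟩ := IsLocalRing.residue_surjective z
    letI : Algebra A' (Y.presheaf.stalk y) :=
      (Y.presheaf.germ ⊤ y trivial).hom.toAlgebra
    haveI : IsLocalization.AtPrime (Y.presheaf.stalk y)
        (hV.primeIdealOf ⟨y, trivial⟩).asIdeal := hV.isLocalization_stalk ⟨y, trivial⟩
    obtain ⟨a, rfl⟩ := (IsLocalization.atUnits A' (hV.primeIdealOf ⟨y, trivial⟩).asIdeal.primeCompl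
      (S := Y.presheaf.stalk y) fun s hs => by
        by_contra hns
        exact hs (hy'.ge ((mem_maximalIdeal _).2 hns))).surjective t
    exact ⟨a, rfl⟩
  let σ : κq →+* X.residueField x := Ideal.ResidueField.lift q (X.evaluation W x hxW).hom
    (fun a ha => (mem_primeIdealOf_iff hW x hxW a).1 ha) fun a ha => by
      rw [Submonoid.mem_comap, IsUnit.mem_submonoid_iff, isUnit_iff_ne_zero]
      exact fun h => ha ((mem_primeIdealOf_iff hW x hxW a).2 h)
  have hσ : ∀ a : A', σ (algebraMap A' κq a) = f.residueFieldMap x (ρ a) := by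
    intro a
    rw [IsScalarTower.algebraMap_apply A' Γ(X, W) κq]
    refine (Ideal.ResidueField.lift_algebraMap _ _ _ _ _).trans ?_
    refine Eq.trans ?_ (Scheme.evaluation_naturality_apply f x (V := ⊤) trivial a).symm
    show (X.presheaf.germ W x hxW ≫ X.residue x) (X.presheaf.map _ (f.app ⊤ a)) = _
    rw [CommRingCat.comp_apply, TopCat.Presheaf.germ_res_apply]
    rfl
  rw [eq_bot_iff]
  intro z hz
  rw [mem_separableClosure_iff] at hz
  letI := (f.residueFieldMap x).hom.toAlgebra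
  let θ : kA →+* Y.residueField y :=
    Ideal.Quotient.lift (maximalIdeal A') ρ hρ0
  have hθ : σ.comp (algebraMap kA κq) = (f.residueFieldMap x).hom.comp θ := by
    refine RingHom.ext fun c => ?_
    obtain ⟨a, rfl⟩ := IsLocalRing.residue_surjective c
    exact (congrArg σ (halg a)).trans (hσ a)
  have hsep : IsSeparable (Y.residueField y) (σ z) := by
    refine Polynomial.Separable.of_dvd (Polynomial.Separable.map hz (f := θ))
      (minpoly.dvd _ _ ?_)
    rw [Polynomial.aeval_def, Polynomial.eval₂_map,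
      show (algebraMap _ (X.residueField x)).comp θ = σ.comp (algebraMap kA κq) from hθ.symm,
      ← Polynomial.hom_eval₂, ← Polynomial.aeval_def, minpoly.aeval, map_zero]
  obtain ⟨c, hc⟩ := hprim (σ z) hsep
  obtain ⟨a, rfl⟩ := hρs c
  rw [IntermediateField.mem_bot]
  exact ⟨IsLocalRing.residue A' a, σ.injective (((congrArg σ (halg a)).trans (hσ a)).trans hc)⟩

variable {A : Type u} [CommRing A] [IsLocalRing A] [IsNoetherianRing A] {X : Scheme.{u}}
  (f : X ⟶ Spec (CommRingCat.of A)) [LocallyOfFiniteType f] (F : X.Modules) (hF : Coh.IsCoh F)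
  (x : X)
  (hprim : letI := (f.residueFieldMap x).hom.toAlgebra
    ∀ a : ↑(X.residueField x), IsSeparable ↑((Spec (CommRingCat.of A)).residueField (f x)) a →
      a ∈ (f.residueFieldMap x).hom.range)
  {ι : Type u} (C : ι → Type u) [∀ i, CommRing (C i)] [∀ i, IsLocalRing (C i)]
  (u : ∀ i, A →+* C i)
  (hflat : ∀ i, ∃ x' : ↥(pullback f (Spec.map (CommRingCat.ofHom (u i)))),
    pullback.fst f (Spec.map (CommRingCat.ofHom (u i))) x' = x ∧
    pullback.snd f (Spec.map (CommRingCat.ofHom (u i))) x' = IsLocalRing.closedPoint (C i) ∧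
    FlatMod.IsFlatOverAt (pullback.snd f (Spec.map (CommRingCat.ofHom (u i))))
      ((Scheme.Modules.pullback (pullback.fst f (Spec.map (CommRingCat.ofHom (u i))))).obj F) x')

include hF hflat hprim in
/-- Nilpotent maximal ideal, a separating family and a primary residue extension. -/
theorem isFlatOverAt_of_family_primary (hnil : IsNilpotent (maximalIdeal A))
    (hu : ∀ a : A, (∀ i, u i a = 0) → a = 0) : FlatMod.IsFlatOverAt f F x := by
  haveI : Coh.IsQCoh F := hF.1
  obtain ⟨_, ⟨W : X.Opens, (hW : IsAffineOpen W), rfl⟩, hxW, -⟩ :=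
    X.isBasis_affineOpens.exists_subset_of_mem_open (Set.mem_univ x) isOpen_univ
  have hV := isAffineOpen_top (Spec (CommRingCat.of A))
  rw [FlatLocus.isFlatOverAt_iff f F hV hW le_top x hxW]
  let A' := Γ(Spec (CommRingCat.of A), ⊤)
  haveI : IsLocalRing A' := isLocalRing_gamma A
  haveI : IsNoetherianRing A' := isNoetherianRing_of_ringEquiv A (sigma A).symm
  letI : Algebra A' Γ(X, W) := (f.appLE ⊤ W le_top).hom.toAlgebra
  haveI : Algebra.FiniteType A' Γ(X, W) :=
    LocallyOfFiniteType.finiteType_appLE (f := f) hV hW le_top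
  haveI : IsNoetherianRing Γ(X, W) := Algebra.FiniteType.isNoetherianRing A' _
  haveI : Module.Finite Γ(X, W) Γ(F, W) := QCohLib.finite_sections_of_isCoh hF hW
  letI : Module A' Γ(F, W) := Module.compHom _ (f.appLE ⊤ W le_top).hom
  haveI : IsScalarTower A' Γ(X, W) Γ(F, W) := .of_algebraMap_smul fun _ _ => rfl
  let C' : ι → Type u := fun i => Γ(Spec (CommRingCat.of (C i)), ⊤)
  haveI : ∀ i, IsLocalRing (C' i) := fun i => isLocalRing_gamma (C i)
  letI : ∀ i, Algebra A' (C' i) := fun i =>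
    ((Spec.map (CommRingCat.ofHom (u i))).appLE ⊤ ⊤ le_top).hom.toAlgebra
  have hnil' : ∀ a : A', a ∈ maximalIdeal A' → IsNilpotent a := by
    intro a ha
    have h1 : IsNilpotent (sigma A a) := by
      obtain ⟨r, hr⟩ := hnil
      refine ⟨r, ?_⟩
      have := Ideal.pow_mem_pow (show sigma A a ∈ maximalIdeal A from
        (mem_maximalIdeal _).2 fun h => (mem_maximalIdeal _).1 ha (by simpa using h.map (sigma A).symm)) r
      rwa [hr, Ideal.zero_eq_bot, Ideal.mem_bot] at this
    simpa using h1.map (sigma A).symm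
  haveI : ∀ i, IsLocalHom (algebraMap A' (C' i)) := fun i => ⟨fun a ha => by
    by_contra hcon
    exact (IsNilpotent.map (hnil' a ((mem_maximalIdeal _).2 hcon)) (algebraMap A' (C' i))).not_isUnit ha⟩
  have hmq : ∀ q : Ideal A', q.IsPrime → q = maximalIdeal A' := fun q hq =>
    le_antisymm (IsLocalRing.le_maximalIdeal hq.ne_top) fun a ha => by
      obtain ⟨r, hr⟩ := hnil' a ha
      exact hq.mem_of_pow_mem r (hr ▸ q.zero_mem)
  have hnilA : IsNilpotent (maximalIdeal A') := by
    rw [Ideal.FG.isNilpotent_iff_le_nilradical (IsNoetherian.noetherian (maximalIdeal A'))]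
    exact fun a ha => hnil' a ha
  let q := (hW.primeIdealOf ⟨x, hxW⟩).asIdeal
  have hq : q.comap (algebraMap A' Γ(X, W)) = maximalIdeal A' := hmq _ (Ideal.comap_isPrime _ _)
  let kA := IsLocalRing.ResidueField A'
  let κq := q.ResidueField
  let toκ : kA →+* κq := Ideal.Quotient.lift (maximalIdeal A') (algebraMap A' κq) fun a ha => by
    rw [IsScalarTower.algebraMap_apply A' Γ(X, W) κq, Ideal.algebraMap_residueField_eq_zero]
    exact hq.ge ha
  letI : Algebra kA κq := toκ.toAlgebra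
  haveI : IsScalarTower A' kA κq := .of_algebraMap_eq fun _ => rfl
  have hk : separableClosure kA κq = ⊥ :=
    separableClosure_residueField_eq_bot f hV hW x hxW (hmq _ inferInstance) hprim fun _ => rfl
  refine flat_of_family' q C' hq hnilA (fun a ha => ?_) fun i K _ m hind 𝔠 b hrel => ?_
  · refine (sigma A).injective (Eq.trans (hu _ fun i => ?_) (map_zero _).symm)
    rw [← appLE_specMap]
    exact (congrArg (sigma (C i)) (ha i)).trans (map_zero _)
  · obtain ⟨x', h1, h2, h3⟩ := hflat i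
    obtain ⟨P, hP, hPq, hPy, hfl⟩ := exists_flat_localized_of_point
      (IsPullback.of_hasPullback f (Spec.map (CommRingCat.ofHom (u i))))
      F hV hW (isAffineOpen_top _) le_top le_top x hxW (IsLocalRing.closedPoint (C i)) trivial
      x' h1 h2 h3
    exact mem_of_relation_primary hk (Ideal.map_le_iff_le_comap.2 hq.ge) hind 𝔠 b hrel P hPq
      (hPy.trans (primeIdealOf_closedPoint (C i)))

include hF hflat hprim in
/-- A family inducing the adic topology and a primary residue extension. -/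
theorem isFlatOverAt_of_family_adic_primary (hx : f x = IsLocalRing.closedPoint A)
    [∀ i, IsLocalHom (u i)]
    (htop : ∀ j : ℕ, ∃ s : Finset (ι × ℕ), ⨅ p ∈ s,
      Ideal.comap (u p.1) (maximalIdeal (C p.1) ^ p.2) ≤ maximalIdeal A ^ j) :
    FlatMod.IsFlatOverAt f F x := by
  haveI : Coh.IsQCoh F := hF.1
  obtain ⟨_, ⟨W : X.Opens, (hW : IsAffineOpen W), rfl⟩, hxW, -⟩ :=
    X.isBasis_affineOpens.exists_subset_of_mem_open (Set.mem_univ x) isOpen_univ
  have hV := isAffineOpen_top (Spec (CommRingCat.of A))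
  rw [FlatLocus.isFlatOverAt_iff f F hV hW le_top x hxW]
  let A' := Γ(Spec (CommRingCat.of A), ⊤)
  haveI : IsLocalRing A' := isLocalRing_gamma A
  haveI : IsNoetherianRing A' := isNoetherianRing_of_ringEquiv A (sigma A).symm
  letI : Algebra A' Γ(X, W) := (f.appLE ⊤ W le_top).hom.toAlgebra
  haveI : Algebra.FiniteType A' Γ(X, W) :=
    LocallyOfFiniteType.finiteType_appLE (f := f) hV hW le_top
  haveI : IsNoetherianRing Γ(X, W) := Algebra.FiniteType.isNoetherianRing A' _
  haveI : Module.Finite Γ(X, W) Γ(F, W) := QCohLib.finite_sections_of_isCoh hF hW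
  letI : Module A' Γ(F, W) := Module.compHom _ (f.appLE ⊤ W le_top).hom
  haveI : IsScalarTower A' Γ(X, W) Γ(F, W) := .of_algebraMap_smul fun _ _ => rfl
  let C' : ι → Type u := fun i => Γ(Spec (CommRingCat.of (C i)), ⊤)
  haveI : ∀ i, IsLocalRing (C' i) := fun i => isLocalRing_gamma (C i)
  letI : ∀ i, Algebra A' (C' i) := fun i =>
    ((Spec.map (CommRingCat.ofHom (u i))).appLE ⊤ ⊤ le_top).hom.toAlgebra
  haveI : ∀ i, IsLocalHom (algebraMap A' (C' i)) := fun i => ⟨fun a ha => by
    have h1 : IsUnit (u i (sigma A a)) := by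
      rw [← appLE_specMap]
      exact ha.map (sigma (C i))
    simpa using (isUnit_of_map_unit (u i) _ h1).map (sigma A).symm⟩
  have hmA : (maximalIdeal A).comap (sigma A).toRingHom = maximalIdeal A' := by
    refine IsLocalRing.eq_maximalIdeal (Ideal.comap_isMaximal_of_surjective _ (sigma A).surjective)
  have hmC : ∀ i, (maximalIdeal (C i)).comap (sigma (C i)).toRingHom = maximalIdeal (C' i) :=
    fun i => IsLocalRing.eq_maximalIdeal
      (Ideal.comap_isMaximal_of_surjective _ (sigma (C i)).surjective)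
  have hy : (hV.primeIdealOf ⟨f x, trivial⟩).asIdeal = maximalIdeal A' := by
    rw [show (⟨f x, trivial⟩ : (⊤ : (Spec (CommRingCat.of A)).Opens)) =
      ⟨(IsLocalRing.closedPoint A : ↥(Spec (CommRingCat.of A))), trivial⟩ from Subtype.ext hx]
    exact primeIdealOf_closedPoint A
  let q := (hW.primeIdealOf ⟨x, hxW⟩).asIdeal
  have hq : q.comap (algebraMap A' Γ(X, W)) = maximalIdeal A' :=
    (congrArg PrimeSpectrum.asIdeal
      (IsAffineOpen.comap_primeIdealOf_appLE (f := f) ⊤ hV W hW le_top (x := x) hxW)).trans hy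
  let kA := IsLocalRing.ResidueField A'
  let κq := q.ResidueField
  let toκ : kA →+* κq := Ideal.Quotient.lift (maximalIdeal A') (algebraMap A' κq) fun a ha => by
    rw [IsScalarTower.algebraMap_apply A' Γ(X, W) κq, Ideal.algebraMap_residueField_eq_zero]
    exact hq.ge ha
  letI : Algebra kA κq := toκ.toAlgebra
  haveI : IsScalarTower A' kA κq := .of_algebraMap_eq fun _ => rfl
  have hk : separableClosure kA κq = ⊥ :=
    separableClosure_residueField_eq_bot f hV hW x hxW hy hprim fun _ => rfl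
  refine flat_of_family_adic' q C' hq (fun j => ?_) fun i K _ m hind 𝔠 b hrel => ?_
  · obtain ⟨s, hs⟩ := htop j
    refine ⟨s, fun a ha => ?_⟩
    have h1 : sigma A a ∈ maximalIdeal A ^ j := hs (by
      simp only [Submodule.mem_iInf, Ideal.mem_comap] at ha ⊢
      intro p hp
      have := Ideal.mem_map_of_mem (sigma (C p.1)).toRingHom (ha p hp)
      rw [Ideal.map_pow, ← hmC,
        Ideal.map_comap_of_surjective (sigma (C p.1)).toRingHom (sigma (C p.1)).surjective] at this
      rw [← appLE_specMap]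
      exact this)
    have h2 := Ideal.mem_map_of_mem (sigma A).symm.toRingHom h1
    rw [Ideal.map_pow] at h2
    have h3 : (maximalIdeal A).map (sigma A).symm.toRingHom = maximalIdeal A' := by
      rw [← hmA]; exact Ideal.map_symm _
    rwa [h3, RingEquiv.toRingHom_eq_coe, RingEquiv.coe_toRingHom, RingEquiv.symm_apply_apply] at h2
  · obtain ⟨x', h1, h2, h3⟩ := hflat i
    obtain ⟨P, hP, hPq, hPy, hfl⟩ := exists_flat_localized_of_point
      (IsPullback.of_hasPullback f (Spec.map (CommRingCat.ofHom (u i))))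
      F hV hW (isAffineOpen_top _) le_top le_top x hxW (IsLocalRing.closedPoint (C i)) trivial
      x' h1 h2 h3
    exact mem_of_relation_primary hk (Ideal.map_le_iff_le_comap.2 hq.ge) hind 𝔠 b hrel P hPq
      (hPy.trans (primeIdealOf_closedPoint (C i)))

end Groth.Agent.FlatFam
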