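import Mathlib

/-!
Flatness over a semilocal ring with nilpotent radical, tested on a separating family of algebras.
-/

set_option autoImplicit false
set_option linter.style.haveILetI false
set_option backward.isDefEq.respectTransparency false

universe u

open TensorProduct IsLocalRing

namespace Groth.Agent.FlatFam

theorem tmul_one_mem_iff {A B : Type u} [CommRing A] [CommRing B] [Algebra A B] (I : Ideal A) (b : B) :
    b ⊗ₜ[A] (Ideal.Quotient.mk I 1) = 0 ↔ b ∈ I.map (algebraMap A B) := by
  rw [← (TensorProduct.tensorQuotEquivQuotSMul B I).map_eq_zero_iff]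
  have h := TensorProduct.tensorQuotEquivQuotSMul_tmul_mk I b (1 : A)
  rw [one_smul] at h
  rw [h, Submodule.Quotient.mk_eq_zero, Ideal.smul_top_eq_map, Submodule.restrictScalars_mem]

/-- Over a local ring with nilpotent maximal ideal. -/
theorem flat_of_family_local {A : Type u} [CommRing A] [IsLocalRing A]
    (hnil : IsNilpotent (maximalIdeal A)) {ι : Type u} (B : ι → Type u) [∀ i, CommRing (B i)]
    [∀ i, Algebra A (B i)] (hB : ∀ a : A, (∀ i, algebraMap A (B i) a = 0) → a = 0)
    (M : Type u) [AddCommGroup M] [Module A M] (hflat : ∀ i, Module.Flat (B i) (B i ⊗[A] M)) :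
    Module.Flat A M := by
  classical
  letI := Ideal.Quotient.field (maximalIdeal A)
  let k := A ⧸ maximalIdeal A
  let Q := M ⧸ (maximalIdeal A • ⊤ : Submodule A M)
  let bas := Module.Free.chooseBasis k Q
  choose v hv using fun j => Submodule.Quotient.mk_surjective _ (bas j)
  let φ := Finsupp.linearCombination A v
  have hsurj : Function.Surjective φ := by
    rw [← LinearMap.range_eq_top]
    obtain ⟨r, hr⟩ := hnil
    have h : LinearMap.range φ ⊔ maximalIdeal A • ⊤ = ⊤ := by
      refine eq_top_iff.2 fun x _ => ?_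
      choose c hc using fun j => Ideal.Quotient.mk_surjective (bas.repr (Submodule.Quotient.mk x) j)
      let l : _ →₀ A := ∑ j ∈ (bas.repr (Submodule.Quotient.mk x)).support, Finsupp.single j (c j)
      have hl : Submodule.mkQ (maximalIdeal A • ⊤ : Submodule A M) (φ l) = Submodule.Quotient.mk x := by
        conv_rhs => rw [← bas.linearCombination_repr (Submodule.Quotient.mk x)]
        rw [map_sum, map_sum, Finsupp.linearCombination_apply, Finsupp.sum]
        refine Finset.sum_congr rfl fun j _ => ?_
        rw [Finsupp.linearCombination_single, map_smul, Submodule.mkQ_apply, hv, ← hc j,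
          ← Ideal.Quotient.algebraMap_eq, algebraMap_smul]
      refine Submodule.mem_sup.2 ⟨_, ⟨l, rfl⟩, x - φ l, ?_, by abel⟩
      rw [← Submodule.Quotient.mk_eq_zero, Submodule.Quotient.mk_sub, ← hl, Submodule.mkQ_apply,
        sub_self]
    suffices ∀ j : ℕ, LinearMap.range φ ⊔ maximalIdeal A ^ j • ⊤ = ⊤ by
      simpa [hr] using this r
    intro j
    induction j with
    | zero => simp
    | succ j ih =>
      refine eq_top_iff.2 (ih.ge.trans (sup_le le_sup_left ?_))
      refine (le_of_eq (congrArg (maximalIdeal A ^ j • ·) h.symm)).trans ?_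
      rw [Submodule.smul_sup, ← Submodule.mul_smul, ← pow_succ]
      exact sup_le_sup Submodule.smul_le_right le_rfl
  have hinj : Function.Injective φ := by
    rw [injective_iff_map_eq_zero]
    intro l hl
    ext j₀
    refine hB _ fun i => ?_
    let K := l.support
    let b : K → B i := fun q => algebraMap A (B i) (l q.1)
    let y : K → B i ⊗[A] M := fun q => (1 : B i) ⊗ₜ[A] v q.1
    have hrel : ∑ q, b q • y q = 0 := by
      have hby : ∀ q : K, b q • y q = (1 : B i) ⊗ₜ[A] (l q.1 • v q.1) := fun q => by
        show algebraMap A (B i) (l q.1) • ((1 : B i) ⊗ₜ[A] v q.1) = _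
        rw [algebraMap_smul, TensorProduct.tmul_smul]
      rw [Finset.sum_congr rfl fun q _ => hby q, ← TensorProduct.tmul_sum]
      rw [show (∑ q : K, l q.1 • v q.1) = φ l from ?_, hl, TensorProduct.tmul_zero]
      rw [Finset.sum_coe_sort l.support fun j => l j • v j]
      exact (Finsupp.linearCombination_apply A l).symm
    haveI := hflat i
    obtain ⟨n, a, z, hy, ha⟩ := Module.Flat.isTrivialRelation_of_sum_smul_eq_zero hrel
    let lam : K → M →ₗ[A] k := fun q =>
      ((Finsupp.lapply q.1 : (_ →₀ k) →ₗ[k] k) ∘ₗ bas.repr.toLinearMap).restrictScalars A ∘ₗ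
        Submodule.mkQ (maximalIdeal A • ⊤ : Submodule A M)
    have hlam : ∀ q q' : K, lam q (v q'.1) = if q' = q then 1 else 0 := by
      intro q q'
      show bas.repr (Submodule.Quotient.mk (v q'.1)) q.1 = _
      rw [hv, Module.Basis.repr_self, Finsupp.single_apply]
      simp only [Subtype.coe_inj]
    choose c hc using fun (q : K) (j : Fin n) => show ∃ c : B i,
        c ⊗ₜ[A] Ideal.Quotient.mk (maximalIdeal A) 1 = (lam q).baseChange (B i) (z j) by
      generalize (lam q).baseChange (B i) (z j) = w
      induction w using TensorProduct.induction_on with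
      | zero => exact ⟨0, TensorProduct.zero_tmul _ _⟩
      | tmul x t =>
        obtain ⟨t, rfl⟩ := Ideal.Quotient.mk_surjective t
        refine ⟨t • x, ?_⟩
        rw [TensorProduct.smul_tmul, ← Ideal.Quotient.mkₐ_eq_mk A, ← map_smul, smul_eq_mul, mul_one]
      | add p q hp hq =>
        obtain ⟨p', hp'⟩ := hp
        obtain ⟨q', hq'⟩ := hq
        exact ⟨p' + q', by rw [TensorProduct.add_tmul, hp', hq']⟩
    let J : Ideal (B i) := (maximalIdeal A).map (algebraMap A (B i))
    have hdelta : ∀ q q' : K, (if q' = q then 1 else 0) - ∑ j, a q' j * c q j ∈ J := by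
      intro q q'
      rw [← tmul_one_mem_iff, TensorProduct.sub_tmul, TensorProduct.sum_tmul, sub_eq_zero]
      have := congrArg ((lam q).baseChange (B i)) (hy q')
      simp only [y, LinearMap.baseChange_tmul, hlam, map_sum, map_smul, ← hc,
        TensorProduct.smul_tmul', smul_eq_mul] at this
      rw [← this]
      split_ifs <;> simp
    let 𝔟 : Ideal (B i) := Ideal.span (Set.range b)
    have hle : 𝔟 ≤ J * 𝔟 := by
      refine Ideal.span_le.2 ?_
      rintro _ ⟨q, rfl⟩
      have : b q = ∑ q', ((if q' = q then 1 else 0) - ∑ j, a q' j * c q j) * b q' := by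
        simp only [sub_mul, Finset.sum_sub_distrib, ite_mul, one_mul, zero_mul,
          Finset.sum_ite_eq', Finset.mem_univ, if_true]
        rw [eq_comm, sub_eq_self]
        simp only [Finset.sum_mul]
        rw [Finset.sum_comm]
        refine Finset.sum_eq_zero fun j _ => ?_
        have h0 := ha j
        calc ∑ q', a q' j * c q j * b q' = (∑ q', b q' * a q' j) * c q j := by
              rw [Finset.sum_mul]; exact Finset.sum_congr rfl fun _ _ => by ring
          _ = 0 := by rw [h0, zero_mul]
      rw [this]
      exact Ideal.sum_mem _ fun q' _ => Ideal.mul_mem_mul (hdelta q q') (Ideal.subset_span ⟨q', rfl⟩)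
    obtain ⟨r, hr⟩ := hnil
    have hpow : ∀ s : ℕ, 𝔟 ≤ J ^ s * 𝔟 := by
      intro s
      induction s with
      | zero => simp
      | succ s ih =>
        rw [pow_succ, mul_assoc]
        exact ih.trans (Ideal.mul_mono_right hle)
    have hb0 : 𝔟 ≤ ⊥ := by
      refine (hpow r).trans ?_
      rw [← Ideal.map_pow, hr, Ideal.zero_eq_bot, Ideal.map_bot, Ideal.bot_mul]
    by_cases hj : j₀ ∈ l.support
    · exact hb0 (Ideal.subset_span ⟨⟨j₀, hj⟩, rfl⟩)
    · simp [Finsupp.notMem_support_iff.1 hj]
  exact Module.Flat.of_linearEquiv (LinearEquiv.ofBijective φ ⟨hinj, hsurj⟩).symm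

/-- Over a semilocal ring with nilpotent radical. -/
theorem flat_iff_of_family_semilocal {A : Type u} [CommRing A] [Finite (MaximalSpectrum A)]
    (hnil : IsNilpotent (Ring.jacobson A)) {ι : Type u} (B : ι → Type u) [∀ i, CommRing (B i)]
    [∀ i, Algebra A (B i)] (hB : ∀ a : A, (∀ i, algebraMap A (B i) a = 0) → a = 0)
    (M : Type u) [AddCommGroup M] [Module A M] :
    Module.Flat A M ↔ ∀ i, Module.Flat (B i) (B i ⊗[A] M) := by
  classical
  haveI := Fintype.ofFinite (MaximalSpectrum A)
  refine ⟨fun _ i => inferInstance, fun h => Module.flat_of_localized_maximal _ fun m hm => ?_⟩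
  let L := Localization.AtPrime m
  -- an idempotent supported at `m`
  let I : MaximalSpectrum A → Ideal A := fun p => p.asIdeal
  have hco : Pairwise fun p p' => IsCoprime (I p) (I p') := fun p p' hne =>
    Ideal.isCoprime_iff_sup_eq.2 (p.isMaximal.coprime_of_ne p'.isMaximal
      fun h => hne (MaximalSpectrum.ext h))
  obtain ⟨e₀, he₀⟩ := Ideal.quotientInfToPiQuotient_surj hco
    (fun p => if p.asIdeal = m then 1 else 0)
  obtain ⟨e₁, rfl⟩ := Ideal.Quotient.mk_surjective e₀
  have hinf : (⨅ p, I p) = Ring.jacobson A := by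
    rw [Ring.jacobson_eq_sInf_isMaximal]
    refine le_antisymm (le_sInf fun p hp => iInf_le I ⟨p, hp⟩) (le_iInf fun p => sInf_le p.isMaximal)
  have hcl : ∀ p : MaximalSpectrum A, Ideal.Quotient.mk p.asIdeal e₁ = if p.asIdeal = m then 1 else 0 :=
    fun p => congrFun he₀ p
  have hid : IsIdempotentElem (Ideal.Quotient.mk (⨅ p, I p) e₁) := by
    refine Ideal.quotientInfToPiQuotient_inj I (funext fun p => ?_)
    show Ideal.quotientInfToPiQuotient I (Ideal.Quotient.mk _ (e₁ * e₁)) p =
      Ideal.quotientInfToPiQuotient I (Ideal.Quotient.mk _ e₁) p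
    rw [map_mul, map_mul, Pi.mul_apply, Ideal.quotientInfToPiQuotient_mk', hcl]
    split_ifs <;> simp
  obtain ⟨e, he, hee⟩ := exists_isIdempotentElem_eq_of_ker_isNilpotent
    (Ideal.Quotient.mk (⨅ p, I p)) (fun x hx => by
      rw [Ideal.mk_ker, hinf] at hx
      obtain ⟨r, hr⟩ := hnil
      exact ⟨r, by simpa [hr] using Ideal.pow_mem_pow hx r⟩)
    (Ideal.Quotient.mk (⨅ p, I p) e₁) ⟨e₁, rfl⟩ hid
  have hemod : ∀ p : MaximalSpectrum A, Ideal.Quotient.mk p.asIdeal e = if p.asIdeal = m then 1 else 0 := by
    intro p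
    rw [← hcl, Ideal.Quotient.eq]
    exact (Ideal.Quotient.eq.1 hee : e - e₁ ∈ ⨅ p, I p) |> fun h => Submodule.mem_iInf _ |>.1 h p
  have hem : e ∉ m := fun h0 => by
    have := hemod ⟨m, hm⟩
    rw [Ideal.Quotient.eq_zero_iff_mem.2 h0] at this
    simp at this
  have hmJ : ∀ a ∈ m, a * e ∈ Ring.jacobson A := by
    intro a ha
    rw [← hinf, Submodule.mem_iInf]
    intro p
    rw [← Ideal.Quotient.eq_zero_iff_mem, map_mul, hemod]
    split_ifs with hp
    · rw [mul_one, Ideal.Quotient.eq_zero_iff_mem, show I p = m from hp]; exact ha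
    · rw [mul_zero]
  have hue : IsUnit (algebraMap A L e) := IsLocalization.map_units L (⟨e, hem⟩ : m.primeCompl)
  have hnilL : IsNilpotent (maximalIdeal L) := by
    obtain ⟨r, hr⟩ := hnil
    refine ⟨r, ?_⟩
    have hle : maximalIdeal L ≤ (Ring.jacobson A).map (algebraMap A L) := by
      rw [← IsLocalization.AtPrime.map_eq_maximalIdeal m, Ideal.map_le_iff_le_comap]
      intro a ha
      have := Ideal.mem_map_of_mem (algebraMap A L) (hmJ a ha)
      rw [map_mul] at this
      exact (Ideal.mul_unit_mem_iff_mem _ hue).1 this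
    rw [Ideal.zero_eq_bot, eq_bot_iff]
    refine (Ideal.pow_right_mono hle r).trans ?_
    rw [← Ideal.map_pow, hr, Ideal.zero_eq_bot, Ideal.map_bot]
  let C : ι → Type u := fun i => Localization (Algebra.algebraMapSubmonoid (B i) m.primeCompl)
  letI : ∀ i, Algebra L (C i) := fun i =>
    (IsLocalization.lift (M := m.primeCompl) (S := L)
      (g := (algebraMap (B i) (C i)).comp (algebraMap A (B i))) fun t =>
        IsLocalization.map_units (C i)
          (⟨_, Algebra.mem_algebraMapSubmonoid_of_mem t⟩ :
            Algebra.algebraMapSubmonoid (B i) m.primeCompl)).toAlgebra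
  haveI : ∀ i, IsScalarTower A L (C i) := fun i => .of_algebraMap_eq fun a => by
    show algebraMap A (C i) a = IsLocalization.lift _ (algebraMap A L a)
    rw [IsLocalization.lift_eq, RingHom.comp_apply, ← IsScalarTower.algebraMap_apply]
  have hsep : ∀ z : L, (∀ i, algebraMap L (C i) z = 0) → z = 0 := by
    intro z hz
    obtain ⟨⟨a, t⟩, hat⟩ := IsLocalization.surj m.primeCompl z
    have ha : ∀ i, algebraMap A (B i) (a * e) = 0 := by
      intro i
      have h1 : algebraMap A (C i) a = 0 := by
        rw [IsScalarTower.algebraMap_apply A L (C i), ← hat, map_mul, hz, zero_mul]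
      rw [IsScalarTower.algebraMap_apply A (B i) (C i), IsLocalization.map_eq_zero_iff
        (Algebra.algebraMapSubmonoid (B i) m.primeCompl) (C i)] at h1
      obtain ⟨⟨_, s, hs, rfl⟩, hsa⟩ := h1
      let w := e * s + (1 - e)
      have hw : IsUnit w := by
        by_contra hnot
        obtain ⟨p, hp, hwp⟩ := exists_max_ideal_of_mem_nonunits hnot
        have h2 := Ideal.Quotient.eq_zero_iff_mem.2 hwp
        simp only [w, map_add, map_mul, map_sub, map_one, hemod ⟨p, hp⟩] at h2
        split_ifs at h2 with hpm
        · simp only [one_mul, sub_self, add_zero] at h2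
          exact hs (hpm ▸ Ideal.Quotient.eq_zero_iff_mem.1 h2)
        · simp only [zero_mul, sub_zero, zero_add] at h2
          exact hp.ne_top ((Ideal.eq_top_iff_one p).2 (Ideal.Quotient.eq_zero_iff_mem.1
            ((map_one _).trans h2)))
      have h3 : a * e * w = e * (s * a) := by
        simp only [w]
        linear_combination (a * s - a) * he.eq
      refine (IsUnit.mul_left_eq_zero (hw.map (algebraMap A (B i)))).1 ?_
      rw [← map_mul, h3, map_mul, map_mul]
      exact (congrArg (algebraMap A (B i) e * ·) hsa).trans (mul_zero _)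
    have hae := hB _ ha
    have h4 : algebraMap A L a * algebraMap A L e = 0 := by rw [← map_mul, hae, map_zero]
    rw [hue.mul_left_eq_zero, ← hat] at h4
    exact (IsLocalization.map_units L t).mul_left_eq_zero.1 h4
  haveI : Module.Flat L (L ⊗[A] M) := by
    refine flat_of_family_local hnilL C hsep _ fun i => ?_
    haveI := h i
    haveI : Module.Flat (C i) (C i ⊗[B i] (B i ⊗[A] M)) := inferInstance
    exact Module.Flat.of_linearEquiv
      ((AlgebraTensorModule.cancelBaseChange A L (C i) (C i) M).trans
        (AlgebraTensorModule.cancelBaseChange A (B i) (C i) (C i) M).symm)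
  haveI : Module.Flat A (L ⊗[A] M) := Module.Flat.trans A L _
  exact Module.Flat.of_linearEquiv
    ((LocalizedModule.equivTensorProduct m.primeCompl M).restrictScalars A)

end Groth.Agent.FlatFam
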