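import Mathlib
import Groth.Agent.FlatFam.SchPrimary
import Groth.Agent.FlatFam.Transfer

/-!
Flatness tested on one point over each local base change, over a general base.
-/

set_option autoImplicit false
set_option linter.style.haveILetI false
set_option backward.isDefEq.respectTransparency false

universe u

open CategoryTheory CategoryTheory.Limits AlgebraicGeometry TopologicalSpace Opposite
open IsLocalRing Groth.Agent.CohBase Groth.Agent.QCohLib Groth.Agent.PullbackMod

namespace Groth.Agent.FlatFam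

theorem residueFieldMap_bijective {X Y : Scheme.{u}} (f : X ⟶ Y) [SurjectiveOnStalks f] (x : X) :
    Function.Bijective (f.residueFieldMap x).hom := by
  refine ⟨RingHom.injective _, fun z => ?_⟩
  obtain ⟨t, rfl⟩ := IsLocalRing.residue_surjective z
  obtain ⟨s, rfl⟩ := f.stalkMap_surjective x t
  exact ⟨IsLocalRing.residue _ s, IsLocalRing.ResidueField.map_residue _ s⟩

/-- Primary residue extensions pass along maps which are bijective on residue fields. -/
theorem primary_transfer {k k' K K' : Type u} [Field k] [Field k'] [Field K] [Field K']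
    (f : k →+* K) (f' : k' →+* K') (γ : k →+* k') (π : K →+* K') (hγ : Function.Bijective γ)
    (hπ : Function.Surjective π) (hc : π.comp f = f'.comp γ)
    (h : letI := f.toAlgebra; ∀ b : K, IsSeparable k b → b ∈ f.range) :
    letI := f'.toAlgebra
    ∀ a : K', IsSeparable k' a → a ∈ f'.range := by
  letI := f'.toAlgebra
  letI := f.toAlgebra
  intro a ha
  obtain ⟨b, rfl⟩ := hπ a
  obtain ⟨p, hp⟩ := Polynomial.map_surjective γ hγ.surjective (minpoly k' (π b))
  have hsep : IsSeparable k b := by
    refine Polynomial.Separable.of_dvd (?_ : p.Separable) (minpoly.dvd _ _ (π.injective ?_))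
    · rw [← Polynomial.separable_map γ, hp]
      exact ha
    · rw [Polynomial.aeval_def, Polynomial.hom_eval₂,
        show π.comp (algebraMap k K) = f'.comp γ from hc, ← Polynomial.eval₂_map, hp, map_zero]
      exact minpoly.aeval k' (π b)
  obtain ⟨c, hc'⟩ := h b hsep
  exact ⟨γ c, by rw [← hc', ← RingHom.comp_apply, ← hc]; rfl⟩

/-- Primary residue extensions along a square whose horizontal maps are preimmersions. -/
theorem primary_of_square {X Y X₀ Y₀ : Scheme.{u}} {a : X₀ ⟶ X} {b : X₀ ⟶ Y₀} {f : X ⟶ Y}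
    {g : Y₀ ⟶ Y} [SurjectiveOnStalks a] [SurjectiveOnStalks g] (w : a ≫ f = b ≫ g) (x₀ : X₀)
    (h : letI := (f.residueFieldMap (a x₀)).hom.toAlgebra
      ∀ c : ↑(X.residueField (a x₀)), IsSeparable ↑(Y.residueField (f (a x₀))) c →
        c ∈ (f.residueFieldMap (a x₀)).hom.range) :
    letI := (b.residueFieldMap x₀).hom.toAlgebra
    ∀ c : ↑(X₀.residueField x₀), IsSeparable ↑(Y₀.residueField (b x₀)) c →
      c ∈ (b.residueFieldMap x₀).hom.range := by
  have hpt : g (b x₀) = f (a x₀) := by
    rw [← Scheme.Hom.comp_apply, ← Scheme.Hom.comp_apply, w]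
  refine primary_transfer (f.residueFieldMap (a x₀)).hom _
    ((Y.residueFieldCongr hpt.symm).hom ≫ g.residueFieldMap (b x₀)).hom
    (a.residueFieldMap x₀).hom ?_ (residueFieldMap_bijective _ x₀).surjective ?_ h
  · exact (residueFieldMap_bijective g _).comp
      (ConcreteCategory.bijective_of_isIso (Y.residueFieldCongr hpt.symm).hom)
  · have h1 := Scheme.Hom.residueFieldMap_congr w x₀
    rw [Scheme.residueFieldMap_comp, Scheme.residueFieldMap_comp] at h1
    rw [← CommRingCat.hom_comp, ← CommRingCat.hom_comp, Category.assoc]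
    exact congrArg CommRingCat.Hom.hom h1

/-- Flatness at a point with primary residue extension tested on one point over each member of a
family of local base changes inducing the adic topology. -/
theorem isFlatOverAt_of_family_stalk_primary {X Y : Scheme.{u}} [IsLocallyNoetherian Y] (f : X ⟶ Y)
    [LocallyOfFiniteType f] (F : X.Modules) (hF : Coh.IsCoh F) (x : X)
    (hprim : letI := (f.residueFieldMap x).hom.toAlgebra
      ∀ a : ↑(X.residueField x), IsSeparable ↑(Y.residueField (f x)) a →
        a ∈ (f.residueFieldMap x).hom.range)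
    {ι : Type u} (A : ι → Type u) [∀ i, CommRing (A i)] [∀ i, IsLocalRing (A i)]
    (φ : ∀ i, (Y.presheaf.stalk (f x) : Type u) →+* A i) [∀ i, IsLocalHom (φ i)]
    (htop : ∀ N : ℕ, ∃ s : Finset (ι × ℕ),
      ⨅ p ∈ s, Ideal.comap (φ p.1) (maximalIdeal (A p.1) ^ p.2) ≤
        maximalIdeal ↑(Y.presheaf.stalk (f x)) ^ N)
    (H : ∀ i, ∃ x' : ↥(pullback f (Spec.map (CommRingCat.ofHom (φ i)) ≫ Y.fromSpecStalk (f x))),
      pullback.fst f (Spec.map (CommRingCat.ofHom (φ i)) ≫ Y.fromSpecStalk (f x)) x' = x ∧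
      pullback.snd f (Spec.map (CommRingCat.ofHom (φ i)) ≫ Y.fromSpecStalk (f x)) x' =
        IsLocalRing.closedPoint (A i) ∧
      FlatMod.IsFlatOverAt (pullback.snd f (Spec.map (CommRingCat.ofHom (φ i)) ≫ Y.fromSpecStalk (f x)))
        ((Scheme.Modules.pullback
          (pullback.fst f (Spec.map (CommRingCat.ofHom (φ i)) ≫ Y.fromSpecStalk (f x)))).obj F) x') :
    FlatMod.IsFlatOverAt f F x := by
  haveI : Coh.IsQCoh F := hF.1
  let g₀ := Y.fromSpecStalk (f x)
  haveI : Flat g₀ := IntImage.flat_fromSpecStalk (f x)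
  obtain ⟨x₀, hx₀, hy₀⟩ := Scheme.Pullback.exists_preimage_pullback (f := f) (g := g₀) x
    (IsLocalRing.closedPoint (Y.presheaf.stalk (f x))) Scheme.fromSpecStalk_closedPoint.symm
  have hc := IsPullback.of_hasPullback f g₀
  suffices hflat : FlatMod.IsFlatOverAt (pullback.snd f g₀)
      ((Scheme.Modules.pullback (pullback.fst f g₀)).obj F) x₀ by
    have := isFlatOverAt_of_baseChange hc F x₀ (Flat.stalkMap g₀ _) hflat
    rwa [hx₀] at this
  haveI : IsNoetherianRing (Y.presheaf.stalk (f x)) := inferInstance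
  have hprim₁ : letI := (f.residueFieldMap (pullback.fst f g₀ x₀)).hom.toAlgebra
      ∀ a : ↑(X.residueField (pullback.fst f g₀ x₀)),
        IsSeparable ↑(Y.residueField (f (pullback.fst f g₀ x₀))) a →
        a ∈ (f.residueFieldMap (pullback.fst f g₀ x₀)).hom.range := by
    rw [hx₀]; exact hprim
  have hprim₀ : letI := ((pullback.snd f g₀).residueFieldMap x₀).hom.toAlgebra
      ∀ a : ↑((pullback f g₀).residueField x₀),
        IsSeparable ↑((Spec (Y.presheaf.stalk (f x))).residueField (pullback.snd f g₀ x₀)) a →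
        a ∈ ((pullback.snd f g₀).residueFieldMap x₀).hom.range := by
    exact primary_of_square (a := pullback.fst f g₀) pullback.condition x₀ hprim₁
  refine isFlatOverAt_of_family_adic_primary (A := (Y.presheaf.stalk (f x) : Type u))
    (pullback.snd f g₀) _ (isCoh_pullback (pullback.fst f g₀) F hF) x₀ hprim₀ A φ (fun i => ?_)
    hy₀ htop
  let b₂ := Spec.map (CommRingCat.ofHom (φ i))
  have hcomp := (IsPullback.of_hasPullback (pullback.snd f g₀) b₂).paste_horiz hc
  obtain ⟨x₁, e1, e2, e3⟩ := H i
  let c := hcomp.isoPullback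
  haveI : Coh.IsQCoh ((Scheme.Modules.pullback (pullback.fst f (b₂ ≫ g₀))).obj F) :=
    isQCoh_pullback _ F
  refine ⟨c.inv x₁, ?_, ?_, ?_⟩
  · refine (Scheme.Hom.isEmbedding (pullback.fst f g₀)).injective (Eq.trans ?_ hx₀.symm)
    refine Eq.trans ?_ e1
    rw [← Scheme.Hom.comp_apply, ← Scheme.Hom.comp_apply, hcomp.isoPullback_inv_fst]
  · refine Eq.trans ?_ e2
    rw [← Scheme.Hom.comp_apply, hcomp.isoPullback_inv_snd]
  · have hce : c.hom (c.inv x₁) = x₁ := by
      rw [← Scheme.Hom.comp_apply, c.inv_hom_id]; rfl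
    have sq : IsPullback c.hom (pullback.snd (pullback.snd f g₀) b₂)
        (pullback.snd f (b₂ ≫ g₀)) (𝟙 _) :=
      IsPullback.of_horiz_isIso ⟨by rw [hcomp.isoPullback_hom_snd, Category.comp_id]⟩
    have h1 := isFlatOverAt_baseChange sq _ (c.inv x₁) (by rw [hce]; exact e3)
    exact isFlatOverAt_of_iso (((Scheme.Modules.pullbackComp _ _).app F) ≪≫
      eqToIso (by rw [hcomp.isoPullback_hom_fst]) ≪≫
      ((Scheme.Modules.pullbackComp _ _).app F).symm) _ _ h1

end Groth.Agent.FlatFam
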